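import Mathlib
import Cfsg.Agent.H396.Der

/-!
# `SQ` from the group order
-/

set_option autoImplicit false

namespace Cfsg.Agent.H394.SqBasic

open MulAction Cfsg.Agent.H396
open scoped Nat

theorem SQ.congr {T S : Type*} [Group T] [Group S] (e : T ≃* S) (h : SQ T) : SQ S := by
  intro M hM hsq
  have hidx : (M.comap e.toMonoidHom).index = M.index :=
    Subgroup.index_comap_of_surjective M e.surjective
  have hco : M.comap e.toMonoidHom ≠ ⊤ := by
    intro ht
    apply hM
    rw [eq_top_iff]
    intro x _
    have : e.symm x ∈ M.comap e.toMonoidHom := by rw [ht]; trivial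
    simpa using this
  rcases h _ hco (by rwa [hidx]) with h1 | ⟨⟨f⟩, h2⟩
  · exact Or.inl (h1.congr e)
  · exact Or.inr ⟨⟨e.symm.trans f⟩, by rwa [← hidx]⟩

/-- If no automorphism class of elements of prime order avoids `M`, the primes dividing the index
divide the order at least twice. -/
theorem sq_dvd_of_not_der {T : Type*} [Group T] [Finite T] {M : Subgroup T}
    (hD : ¬ Der T M) {r : ℕ} (hr : r.Prime) (hri : r ∣ M.index) :
    r * r ∣ Nat.card T := by
  have h1 : r ∣ Nat.card M := by
    by_contra h
    exact hD (der_of_prime hr (hri.trans M.index_dvd_card) h)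
  rw [← M.card_mul_index]
  exact mul_dvd_mul h1 hri

theorem prime_dvd_card_of_not_der {T : Type*} [Group T] [Finite T] {M : Subgroup T}
    (hD : ¬ Der T M) {r : ℕ} (hr : r.Prime) (hri : r ∣ Nat.card T) : r ∣ Nat.card M := by
  by_contra h
  exact hD (der_of_prime hr hri h)

/-- A simple group embeds in the symmetric group on the cosets. -/
theorem card_dvd_factorial {T : Type*} [Group T] [Finite T] [IsSimpleGroup T] {M : Subgroup T}
    (hM : M ≠ ⊤) : Nat.card T ∣ (M.index)! := by
  have hinj : Function.Injective (MulAction.toPermHom T (T ⧸ M)) := by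
    rw [← MonoidHom.ker_eq_bot_iff, ← Subgroup.normalCore_eq_ker]
    rcases IsSimpleGroup.eq_bot_or_eq_top_of_normal M.normalCore inferInstance with h | h
    · exact h
    · exact absurd (top_le_iff.1 (h ▸ M.normalCore_le)) hM
  have h1 := Subgroup.card_dvd_of_injective _ hinj
  rwa [Nat.card_perm] at h1

theorem le_index_of_prime_dvd {T : Type*} [Group T] [Finite T] [IsSimpleGroup T] {M : Subgroup T}
    (hM : M ≠ ⊤) {p : ℕ} (hp : p.Prime) (hpT : p ∣ Nat.card T) : p ≤ M.index :=
  (hp.dvd_factorial).1 (hpT.trans (card_dvd_factorial hM))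

/-- The possible indices. -/
theorem index_dvd_of_not_der {T : Type*} [Group T] [Finite T] {M : Subgroup T}
    (hsq : Squarefree M.index) (hD : ¬ Der T M) (S : Finset ℕ)
    (hS : ∀ r : ℕ, r.Prime → r * r ∣ Nat.card T → r ∈ S) :
    M.index ∣ ∏ r ∈ S, r := by
  have h1 : M.index = ∏ p ∈ M.index.primeFactors, p :=
    (Nat.prod_primeFactors_of_squarefree hsq).symm
  rw [h1]
  apply Finset.prod_dvd_prod_of_subset
  intro p hp
  rw [Nat.mem_primeFactors] at hp
  exact hS p hp.1 (sq_dvd_of_not_der hD hp.1 hp.2.1)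

/-- An element of prime order `l` acts trivially on an invariant set with fewer than `l` points. -/
theorem fix_of_lt {G X : Type*} [Group G] [MulAction G X] {l : ℕ} (hl : l.Prime) {g : G}
    (hg : g ^ l = 1) (S : Set X) (hfin : S.Finite) (hS : ∀ x ∈ S, g • x ∈ S) (hc : S.ncard < l)
    (x : X) (hx : x ∈ S) : g • x = x := by
  by_contra hne
  have hgx : g ∉ stabilizer G x := hne
  have key : ∀ i j : ℕ, i < j → j < l → g ^ i • x ≠ g ^ j • x := by
    intro i j hij hjl heq
    have h1 : g ^ (j - i) ∈ stabilizer G x := by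
      rw [mem_stabilizer_iff]
      have e : g ^ j = g ^ i * g ^ (j - i) := by rw [← pow_add]; congr 1; omega
      rw [e, mul_smul] at heq
      exact (MulAction.injective (g ^ i) heq).symm
    have hcop : Nat.Coprime (j - i) l := by
      rw [Nat.coprime_comm, Nat.Prime.coprime_iff_not_dvd hl]
      exact Nat.not_dvd_of_pos_of_lt (by omega) (by omega)
    have h3 : g ^ l ∈ stabilizer G x := by rw [hg]; exact one_mem _
    have h4 : (g : G) ^ ((Nat.gcd (j - i) l : ℕ) : ℤ) ∈ stabilizer G x := by
      rw [Nat.gcd_eq_gcd_ab, zpow_add, zpow_mul, zpow_mul, zpow_natCast, zpow_natCast]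
      exact mul_mem (zpow_mem h1 _) (zpow_mem h3 _)
    rw [zpow_natCast, hcop, pow_one] at h4
    exact hgx h4
  have hinj : Function.Injective (fun i : Fin l => g ^ (i : ℕ) • x) := by
    intro i j hij
    by_contra hne'
    rcases Nat.lt_or_ge (i : ℕ) (j : ℕ) with h | h
    · exact key i j h j.2 hij
    · exact key j i (lt_of_le_of_ne h (fun h'' => hne' (Fin.ext h''.symm))) i.2 hij.symm
  have hmem : ∀ i : ℕ, g ^ i • x ∈ S := by
    intro i
    induction i with
    | zero => rw [pow_zero, one_smul]; exact hx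
    | succ i ih => rw [pow_succ', mul_smul]; exact hS _ ih
  have h1 : (Set.range (fun i : Fin l => g ^ (i : ℕ) • x)).ncard = l := by
    rw [← Set.image_univ, Set.ncard_image_of_injective _ hinj, Set.ncard_univ, Nat.card_eq_fintype_card,
      Fintype.card_fin]
  have h2 := Set.ncard_le_ncard (s := Set.range (fun i : Fin l => g ^ (i : ℕ) • x)) (t := S)
    (by rintro _ ⟨i, rfl⟩; exact hmem i) hfin
  omega

end Cfsg.Agent.H394.SqBasic
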