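import Cfsg.Agent.H709.PB.Guide

/-!
# S4826: tools for the sporadic rows (helper394)

* `mem_of_dvd`: a prime dividing a product of prime powers.
* `nb_of_pair`: `NB p 1 G` from two commuting elements of order `p` whose common centralizer is a `p`-group.
* `row_of_list`: `Row p G` from `IM p G` and a list of all `NB q k G`, `q = p` allowed (it is ignored).
-/

set_option autoImplicit false

namespace Cfsg.Agent.H394.PBTools

open Subgroup Cfsg Cfsg.Agent.H133.PB Cfsg.Agent.H709.PB

universe u

theorem mem_of_dvd {p : ℕ} (hp : p.Prime) : ∀ (L E : List ℕ) (_ : ∀ q ∈ L, q.Prime),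
    p ∣ (List.zipWith (fun q e => q ^ e) L E).prod → p ∈ L := by
  intro L
  induction L with
  | nil =>
    intro E _ h
    simp at h
    exact absurd h hp.one_lt.ne'
  | cons q L ih =>
    intro E hL h
    cases E with
    | nil =>
      simp at h
      exact absurd h hp.one_lt.ne'
    | cons e E =>
      simp only [List.zipWith_cons_cons, List.prod_cons] at h
      rcases (Nat.Prime.dvd_mul hp).1 h with h | h
      · exact List.mem_cons.2 (Or.inl ((Nat.prime_dvd_prime_iff_eq hp (hL q (by simp))).1 (hp.dvd_of_dvd_pow h)))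
      · exact List.mem_cons.2 (Or.inr (ih E (fun r hr => hL r (List.mem_cons_of_mem _ hr)) h))

section

variable {G : Type u} [Group G] [Finite G]

theorem isPGroup_of_primes {p : ℕ} (K : Subgroup G) (h : ∀ q : ℕ, q.Prime → q ≠ p → ¬ q ∣ Nat.card K) :
    IsPGroup p K :=
  IsPGroup.of_card (Nat.eq_prime_pow_of_unique_prime_dvd Nat.card_pos.ne' fun {d} hd hdn => by
    by_contra hne
    exact h d hd hne hdn)

theorem nb_of_pair {p : ℕ} [hp : Fact p.Prime] {x y : G} (hx : orderOf x = p) (hy : orderOf y = p)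
    (hxy : y * x = x * y)
    (h : ∀ q : ℕ, q.Prime → q ≠ p →
      ¬ q ∣ Nat.card ↥(centralizer ({x} : Set G) ⊓ centralizer ({y} : Set G))) : NB p 1 G := by
  have h1 : IsPGroup p (zpowers x) := IsPGroup.of_card (n := 1) (by rw [Nat.card_zpowers, hx, pow_one])
  have h2 : IsPGroup p (zpowers y) := IsPGroup.of_card (n := 1) (by rw [Nat.card_zpowers, hy, pow_one])
  have h3 : IsPGroup p ↥(zpowers x ⊔ zpowers y) := by
    refine IsPGroup.to_sup_of_normal_right' h1 h2 ?_
    rw [zpowers_le]
    apply Subgroup.centralizer_le_normalizer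
    rw [Subgroup.mem_centralizer_iff]
    rintro _ ⟨k, rfl⟩
    exact (((show Commute y x from hxy).zpow_left k).eq)
  obtain ⟨Q, hQ⟩ := h3.exists_le_sylow
  refine NB.of_sylow Q ?_
  refine (isPGroup_of_primes _ h).to_le ?_
  refine le_inf (Subgroup.centralizer_le ?_) (Subgroup.centralizer_le ?_)
  · rw [Set.singleton_subset_iff]
    exact hQ (le_sup_left (a := zpowers x) (mem_zpowers x))
  · rw [Set.singleton_subset_iff]
    exact hQ (le_sup_right (b := zpowers y) (mem_zpowers y))

/-- a character of degree not divisible by `q ^ k` is in the principal `q`-block -/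
theorem bd_of_nb {p q k : ℕ} (h : NB q k G) (χ : IrrCharacter G) (hq : ¬ q ^ k ∣ charDegree (χ : G → ℂ))
    (hp : p ∣ charDegree (χ : G → ℂ)) : BD p q G :=
  fun M hM => ⟨χ, by_contra fun hn => hq (h M hM χ hn), hp⟩

theorem row_of_list {p : ℕ} (hp : p.Prime) (h : H33.IM p G) (hd : p ∣ Nat.card G) (L : List (ℕ × ℕ))
    (hnd : (L.map Prod.fst).Nodup) (hL : ∀ x ∈ L, x.1.Prime ∧ x.2 ≠ 0 ∧ x.1 ∣ Nat.card G ∧ NB x.1 x.2 G)
    (hbig : Nat.card G < (p * ((L.filter fun x => x.1 ≠ p).map fun x => x.1 ^ x.2).prod) ^ 2) : Row p G := by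
  refine Row.of_IM hp h (L.filter fun x => x.1 ≠ p) ?_ ?_ hbig
  · exact hnd.sublist (List.filter_sublist.map _)
  · intro x hx
    obtain ⟨h1, h2⟩ := List.mem_filter.1 hx
    obtain ⟨h3, -, h5, h6⟩ := hL x h1
    exact ⟨h3, by simpa using h2, h5, h6⟩

end

end Cfsg.Agent.H394.PBTools
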