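import Mathlib
import Cfsg.Agent.H316.RedAb
import Cfsg.Agent.Schreier.Tools

/-!
# Small permutation representations of groups with a large extraspecial subgroup
-/

set_option autoImplicit false

namespace Cfsg.Agent.H394.SqSheet

open Subgroup MulAction Cfsg.Agent.H316.Red
open scoped commutatorElement

/-- the part of the fact sheets which is used -/
structure Sh {K : Type*} [Group K] (z : K) (P R : Subgroup K) : Prop where
  zz : z * z = 1
  z1 : z ≠ 1
  zR : z ∈ R
  RP : R ≤ P
  cen : ∀ x ∈ P, x * z = z * x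
  perf : ⁅P, P⁆ = P
  R2 : IsPGroup 2 R
  Rn : ∀ x ∈ P, ∀ r ∈ R, x * r * x⁻¹ ∈ R
  Rmin : ∀ B : Subgroup K, B ≤ R → (∀ x ∈ P, ∀ b ∈ B, x * b * x⁻¹ ∈ B) →
    (∀ b ∈ B, b = 1 ∨ b = z) ∨ B = R
  Rna : ∃ a ∈ R, ∃ b ∈ R, a * b ≠ b * a

variable {K : Type*} [Group K] {z : K} {P R : Subgroup K}

theorem le_normalizer_of_conj {A Q : Subgroup K} (h : ∀ x ∈ Q, ∀ a ∈ A, x * a * x⁻¹ ∈ A) :
    Q ≤ normalizer (A : Set K) := by
  intro x hx
  rw [mem_normalizer_iff]
  intro a
  refine ⟨h x hx a, fun h1 => ?_⟩
  have h2 := h x⁻¹ (Q.inv_mem hx) _ h1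
  rwa [show x⁻¹ * (x * a * x⁻¹) * x⁻¹⁻¹ = a by group] at h2

theorem comm_le [Finite K] (h : Sh z P R) : ∀ x ∈ R, ∀ y ∈ R, ⁅x, y⁆ ∈ zpowers z := by
  have hz : orderOf z = 2 := orderOf_eq_prime (by rw [pow_two, h.zz]) h.z1
  have h1 : ⁅R, R⁆ ≤ R := by
    rw [commutator_le]
    intro a ha b hb
    exact R.mul_mem (R.mul_mem (R.mul_mem ha hb) (R.inv_mem ha)) (R.inv_mem hb)
  have hPn : P ≤ normalizer (R : Set K) := le_normalizer_of_conj h.Rn
  have h2 : ∀ x ∈ P, ∀ b ∈ ⁅R, R⁆, x * b * x⁻¹ ∈ ⁅R, R⁆ := by
    intro x hx b hb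
    have h3 : (⁅R, R⁆).map (MulAut.conj x).toMonoidHom = ⁅R, R⁆ := by
      rw [map_commutator]
      have h4 : R.map (MulAut.conj x).toMonoidHom = R := by
        have h5 : (MulAut.conj x).toMonoidHom '' (R : Set K) = R := by
          ext y
          constructor
          · rintro ⟨r, hr, rfl⟩
            exact h.Rn x hx r hr
          · intro hy
            refine ⟨x⁻¹ * y * x, ?_, ?_⟩
            · have := h.Rn x⁻¹ (P.inv_mem hx) y hy
              rwa [inv_inv] at this
            · show x * (x⁻¹ * y * x) * x⁻¹ = y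
              group
        exact SetLike.coe_injective h5
      rw [h4]
    rw [← h3]
    exact ⟨b, hb, rfl⟩
  rcases h.Rmin _ h1 h2 with h3 | h3
  · intro x hx y hy
    rw [mem_zpowers_two hz]
    exact h3 _ (commutator_mem_commutator hx hy)
  · exfalso
    have hnil : Group.IsNilpotent R := h.R2.isNilpotent
    have hs : Group.IsSolvable R := inferInstance
    have h4 : derivedSeries R 1 = ⊤ := by
      rw [derivedSeries_succ, derivedSeries_zero]
      apply map_injective R.subtype_injective
      rw [map_commutator, ← MonoidHom.range_eq_map, range_subtype, h3]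
    have h5 : ∀ n, derivedSeries R n = ⊤ := by
      intro n
      induction n with
      | zero => rfl
      | succ n ih =>
        rw [derivedSeries_succ, ih]
        rw [derivedSeries_succ, derivedSeries_zero] at h4
        exact h4
    obtain ⟨n, hn⟩ := hs.1
    rw [h5 n] at hn
    have h6 : (⟨z, h.zR⟩ : R) ∈ (⊥ : Subgroup R) := by rw [← hn]; trivial
    rw [mem_bot] at h6
    exact h.z1 (congrArg Subtype.val h6)

theorem center_le [Finite K] (h : Sh z P R) : ∀ x ∈ R, (∀ y ∈ R, x * y = y * x) → x = 1 ∨ x = z := by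
  have h1 : ∀ x ∈ P, ∀ b ∈ R ⊓ centralizer (R : Set K), x * b * x⁻¹ ∈ R ⊓ centralizer (R : Set K) := by
    rintro x hx b ⟨hb, hbc⟩
    refine mem_inf.2 ⟨h.Rn x hx b hb, mem_centralizer_iff.2 ?_⟩
    replace hbc := mem_centralizer_iff.1 (show b ∈ centralizer (R : Set K) from hbc)
    intro r hr
    have h2 := h.Rn x⁻¹ (P.inv_mem hx) r hr
    rw [inv_inv] at h2
    have h3 := hbc _ h2
    calc r * (x * b * x⁻¹) = x * ((x⁻¹ * r * x) * b) * x⁻¹ := by group
      _ = x * (b * (x⁻¹ * r * x)) * x⁻¹ := by rw [h3]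
      _ = x * b * x⁻¹ * r := by group
  rcases h.Rmin _ inf_le_left h1 with h2 | h2
  · intro x hx hxc
    exact h2 x ⟨hx, mem_centralizer_iff.2 fun y hy => (hxc y hy).symm⟩
  · exfalso
    obtain ⟨a, ha, b, hb, hab⟩ := h.Rna
    rw [← h2] at ha
    exact hab (mem_centralizer_iff.1 ha.2 b hb).symm

/-- **The orbit bound.** -/
theorem orbit_bound [Finite K] (h : Sh z P R) {X : Type*} [MulAction K X] [Finite X] (x : X)
    (hx : z • x ≠ x) : Nat.card R ≤ Nat.card X ∨ ∃ N : Subgroup K, R ≤ N ∧ N < P ∧
      ∃ r : ℕ, N.relIndex P * r ≤ Nat.card X ∧ 2 * Nat.card R ≤ r * r := by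
  classical
  have hz : orderOf z = 2 := orderOf_eq_prime (by rw [pow_two, h.zz]) h.z1
  set E : Subgroup K := R ⊓ stabilizer K x with hE
  have hzE : z ∉ E := fun h1 => hx h1.2
  have hRz : R ≤ Ce z := fun r hr => mem_Ce.2 (h.cen r (h.RP hr))
  have hEab : ∀ a ∈ E, ∀ b ∈ E, a * b = b * a := by
    intro a ha b hb
    rcases (mem_zpowers_two hz).1 (comm_le h a ha.1 b hb.1) with h1 | h1
    · exact commutatorElement_eq_one_iff_mul_comm.1 h1
    · exfalso
      apply hzE
      rw [← h1]
      exact E.mul_mem (E.mul_mem (E.mul_mem ha hb) (E.inv_mem ha)) (E.inv_mem hb)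
  have hzc : ∀ r ∈ R, r * z = z * r := fun r hr => h.cen r (h.RP hr)
  -- `A = E ⟨z⟩`
  let A : Subgroup K :=
    { carrier := {a | a ∈ E ∨ a * z ∈ E}
      one_mem' := Or.inl E.one_mem
      mul_mem' := by
        rintro a b (ha | ha) (hb | hb)
        · exact Or.inl (E.mul_mem ha hb)
        · right
          show a * b * z ∈ E
          rw [mul_assoc]; exact E.mul_mem ha hb
        · right
          show a * b * z ∈ E
          have e : a * b * z = (a * z) * b := by rw [mul_assoc, hzc b hb.1, mul_assoc]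
          rw [e]; exact E.mul_mem ha hb
        · left
          show a * b ∈ E
          have hbR : b ∈ R := by
            have := R.mul_mem hb.1 h.zR
            rwa [mul_assoc, h.zz, mul_one] at this
          have e : a * b = (a * z) * (b * z) := by
            rw [mul_assoc, ← mul_assoc z b z, ← hzc b hbR, mul_assoc b z z, h.zz, mul_one]
          rw [e]; exact E.mul_mem ha hb
      inv_mem' := by
        rintro a (ha | ha)
        · exact Or.inl (E.inv_mem ha)
        · right
          show a⁻¹ * z ∈ E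
          have haR : a ∈ R := by
            have := R.mul_mem ha.1 h.zR
            rwa [mul_assoc, h.zz, mul_one] at this
          have hzi : z⁻¹ = z := inv_eq_of_mul_eq_one_left h.zz
          have e : a⁻¹ * z = (a * z)⁻¹ := by
            rw [mul_inv_rev, hzi]
            have := hzc a⁻¹ (R.inv_mem haR)
            exact this
          rw [e]; exact E.inv_mem ha }
  have hmA : ∀ a, a ∈ A ↔ (a ∈ E ∨ a * z ∈ E) := fun a => Iff.rfl
  have hEA : E ≤ A := fun a ha => Or.inl ha
  have hzA : z ∈ A := Or.inr (by rw [h.zz]; exact E.one_mem)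
  have hAR : A ≤ R := by
    rintro a (ha | ha)
    · exact ha.1
    · have := R.mul_mem ha.1 h.zR
      rwa [mul_assoc, h.zz, mul_one] at this
  have hAab : ∀ a ∈ A, ∀ b ∈ A, a * b = b * a := by
    have key : ∀ a ∈ A, ∀ b ∈ E, a * b = b * a := by
      rintro a ha b hb
      rcases ha with ha' | ha'
      · exact hEab a ha' b hb
      · have h1 := hEab _ ha' b hb
        rw [mul_assoc, ← hzc b hb.1, ← mul_assoc, ← mul_assoc] at h1
        exact mul_right_cancel h1
    intro a ha b hb
    rcases hb with hb' | hb'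
    · exact key a ha b hb'
    · have h1 := key a ha _ hb'
      have h2 := hzc a (hAR ha)
      rw [← mul_assoc, mul_assoc b z a, ← h2, ← mul_assoc] at h1
      exact mul_right_cancel h1
  have hcardA : Nat.card A = 2 * Nat.card E := by
    have h1 : Nat.card A = Nat.card (E × Fin 2) := by
      refine (Nat.card_congr (Equiv.ofBijective (fun p : E × Fin 2 => (⟨if p.2 = 0 then (p.1 : K) else p.1 * z,
        by
          split_ifs
          · exact hEA p.1.2
          · exact A.mul_mem (hEA p.1.2) hzA⟩ : A)) ⟨?_, ?_⟩)).symm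
      · rintro ⟨a, i⟩ ⟨b, j⟩ hab
        have h1 := congrArg Subtype.val hab
        simp only at h1
        have hne : ∀ u v : E, (u : K) ≠ v * z := by
          intro u v huv
          apply hzE
          have : z = (v : K)⁻¹ * u := by rw [huv]; group
          rw [this]; exact E.mul_mem (E.inv_mem v.2) u.2
        have hfin : ∀ i : Fin 2, i = 0 ∨ i = 1 := by decide
        rcases hfin i with rfl | rfl <;> rcases hfin j with rfl | rfl
        · simp only [if_true] at h1
          rw [Subtype.ext h1]
        · simp only [if_true, one_ne_zero, if_false] at h1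
          exact absurd h1 (hne a b)
        · simp only [if_true, one_ne_zero, if_false] at h1
          exact absurd h1.symm (hne b a)
        · simp only [one_ne_zero, if_false] at h1
          rw [Subtype.ext (mul_right_cancel h1)]
      · rintro ⟨a, ha | ha⟩
        · exact ⟨(⟨a, ha⟩, 0), by simp⟩
        · refine ⟨(⟨a * z, ha⟩, 1), ?_⟩
          apply Subtype.ext
          simp only [one_ne_zero, if_false]
          rw [mul_assoc, h.zz, mul_one]
    rw [h1, Nat.card_prod, Nat.card_eq_fintype_card (α := Fin 2), Fintype.card_fin, mul_comm]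
  have hZ : Nat.card (R ⊓ centralizer (R : Set K) : Subgroup K) ≤ 2 := by
    have h1 : (R ⊓ centralizer (R : Set K) : Subgroup K) ≤ zpowers z := by
      rintro a ⟨ha, hac⟩
      rw [mem_zpowers_two hz]
      exact center_le h a ha (fun y hy => (mem_centralizer_iff.1 hac y hy).symm)
    have h2 := Nat.le_of_dvd Nat.card_pos (card_dvd_of_le h1)
    rwa [Nat.card_zpowers, hz] at h2
  have hsq : Nat.card A * Nat.card A ≤ Nat.card R * 2 :=
    (card_sq_le_aux hz hRz (comm_le h) hAab (Nat.card R) R rfl hAR le_rfl).trans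
      (Nat.mul_le_mul_left _ hZ)
  have hindR : Nat.card E * E.relIndex R = Nat.card R := card_mul_relIndex' inf_le_left
  set r := E.relIndex R with hr
  have hr2 : 2 * Nat.card R ≤ r * r := by
    have h1 : Nat.card E * Nat.card E * 4 ≤ Nat.card R * 2 := by
      have : Nat.card A * Nat.card A = Nat.card E * Nat.card E * 4 := by rw [hcardA]; ring
      rw [← this]; exact hsq
    have h2 : (Nat.card E * Nat.card E) * (2 * Nat.card R) ≤ (Nat.card E * Nat.card E) * (r * r) := by
      have h3 : (Nat.card E * Nat.card E) * (r * r) = Nat.card R * Nat.card R := by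
        rw [← hindR]; ring
      rw [h3]
      nlinarith [Nat.card_pos (α := R)]
    exact Nat.le_of_mul_le_mul_left h2 (Nat.mul_pos Nat.card_pos Nat.card_pos)
  -- the stabilizer in `P`
  set S : Subgroup K := stabilizer K x ⊓ P with hS
  set N : Subgroup K := normalizer (A : Set K) ⊓ P with hN
  have hSX : S.relIndex P ≤ Nat.card X := by
    rw [hS, inf_relIndex_right]
    have h1 : (stabilizer K x).relIndex P = Nat.card (orbit P x) := by
      have h2 : (stabilizer K x).relIndex P = (stabilizer P x).index := rfl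
      rw [h2, index_stabilizer]
      rfl
    rw [h1]
    exact Nat.card_le_card_of_injective _ Subtype.val_injective
  have hSN : S ≤ N := by
    rintro s ⟨hs, hsP⟩
    refine ⟨?_, hsP⟩
    have h1 : ∀ s ∈ stabilizer K x ⊓ P, ∀ a ∈ A, s * a * s⁻¹ ∈ A := by
      rintro s ⟨hs, hsP⟩ a ha
      have h2 : ∀ e ∈ E, s * e * s⁻¹ ∈ E := by
        rintro e ⟨heR, hex⟩
        refine ⟨h.Rn s hsP e heR, ?_⟩
        exact (stabilizer K x).mul_mem ((stabilizer K x).mul_mem hs hex) ((stabilizer K x).inv_mem hs)
      rcases ha with ha' | ha'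
      · exact Or.inl (h2 a ha')
      · right
        have h3 := h2 _ ha'
        have h4 : s * (a * z) * s⁻¹ = s * a * s⁻¹ * z := by
          have h5 : z * s⁻¹ = s⁻¹ * z := (h.cen _ (P.inv_mem hsP)).symm
          rw [mul_assoc, mul_assoc a z, h5]; group
        rwa [h4] at h3
    exact le_normalizer_of_conj h1 ⟨hs, hsP⟩
  have hRN : R ≤ N := by
    refine le_inf (le_normalizer_of_conj ?_) h.RP
    intro s hs a ha
    have h1 : s * a * s⁻¹ = ⁅s, a⁆ * a := by rw [commutatorElement_def]; group
    rw [h1]
    apply A.mul_mem _ ha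
    exact zpowers_le.2 hzA (comm_le h s hs a (hAR ha))
  by_cases hNP : N = P
  · left
    have h1 : ∀ x ∈ P, ∀ b ∈ A, x * b * x⁻¹ ∈ A := by
      intro s hs b hb
      rw [← hNP] at hs
      exact (mem_normalizer_iff.1 hs.1 b).1 hb
    rcases h.Rmin A hAR h1 with h2 | h2
    · have h3 : Nat.card E = 1 := by
        have h4 : E = ⊥ := by
          rw [eq_bot_iff]
          intro e he
          rcases h2 e (hEA he) with h5 | h5
          · exact mem_bot.2 h5
          · exact absurd (h5 ▸ he) hzE
        rw [h4]; exact card_bot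
      rw [h3, one_mul] at hindR
      have h4 : (stabilizer K x).relIndex R ≤ Nat.card X := by
        have h1 : (stabilizer K x).relIndex R = Nat.card (orbit R x) := by
          have h2 : (stabilizer K x).relIndex R = (stabilizer R x).index := rfl
          rw [h2, index_stabilizer]
          rfl
        rw [h1]
        exact Nat.card_le_card_of_injective _ Subtype.val_injective
      rw [← hindR, hr, hE, inf_relIndex_left]
      exact h4
    · exfalso
      obtain ⟨a, ha, b, hb, hab⟩ := h.Rna
      rw [← h2] at ha hb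
      exact hab (hAab a ha b hb)
  · right
    refine ⟨N, hRN, lt_of_le_of_ne inf_le_right hNP, r, ?_, hr2⟩
    have h1 : S.relIndex N * N.relIndex P = S.relIndex P :=
      relIndex_mul_relIndex S N P hSN inf_le_right
    have h2 : r ≤ S.relIndex N := by
      have h3 : r = (stabilizer K x).relIndex R := by rw [hr, hE, inf_relIndex_left]
      have h4 : S.relIndex N = (stabilizer K x).relIndex N := by
        have h6 : S ⊓ N = stabilizer K x ⊓ N := by
          ext y
          constructor
          · rintro ⟨⟨h7, _⟩, h8⟩; exact ⟨h7, h8⟩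
          · rintro ⟨h7, h8⟩; exact ⟨⟨h7, h8.2⟩, h8⟩
        rw [← inf_relIndex_right S N, h6, inf_relIndex_right]
      rw [h3, h4]
      have h5 : (stabilizer K x).relIndex N ≠ 0 := index_ne_zero_of_finite
      exact relIndex_le_of_le_right hRN h5
    calc N.relIndex P * r ≤ N.relIndex P * S.relIndex N := Nat.mul_le_mul_left _ h2
      _ = S.relIndex P := by rw [mul_comm]; exact h1
      _ ≤ Nat.card X := hSX

/-- A proper subgroup of a perfect group has index at least `5`. -/
theorem five_le_relIndex [Finite K] {P : Subgroup K} (hP : ⁅P, P⁆ = P) {N : Subgroup K} (hN : N < P) :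
    5 ≤ N.relIndex P := by
  by_contra hlt
  apply hN.ne
  apply le_antisymm hN.le
  intro x hx
  have h1 : Nat.card (P ⧸ N.subgroupOf P) ≤ 4 := by
    have : Nat.card (P ⧸ N.subgroupOf P) = N.relIndex P := rfl
    omega
  have h2 := Cfsg.Agent.Schreier.Tools.perm_eq_one hP h1 (MulAction.toPermHom P (P ⧸ N.subgroupOf P))
    ⟨x, hx⟩ (QuotientGroup.mk 1)
  have h3 : (QuotientGroup.mk (⟨x, hx⟩ * 1) : P ⧸ N.subgroupOf P) = QuotientGroup.mk 1 := h2
  rw [QuotientGroup.eq, mul_one, mul_one] at h3
  have h4 := inv_mem h3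
  rw [inv_inv] at h4
  exact h4

end Cfsg.Agent.H394.SqSheet
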