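import Mathlib

set_option autoImplicit false

namespace Cfsg.Agent.H394.SqNum

open scoped Nat

/-- The primorial is smaller than the central binomial coefficient. -/
theorem primorial_lt_choose : ∀ k : ℕ, 1 ≤ k → primorial k < (2 * k).choose k := by
  intro k
  induction k using Nat.strong_induction_on with
  | _ k ih =>
    intro hk
    rcases Nat.even_or_odd' k with ⟨a, rfl | rfl⟩
    · -- even
      have ha : 1 ≤ a := by omega
      have h1 := primorial_add_le (le_refl a)
      have h2 := ih a (by omega) ha
      have h3 : (2 * a).choose a * (2 * a).choose a ≤ (2 * (2 * a)).choose (2 * a) := by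
        have h4 := Nat.add_choose_eq (2 * a) (2 * a) (2 * a)
        have e : 2 * (2 * a) = 2 * a + 2 * a := by ring
        rw [e, h4]
        have hmem : ((a, a) : ℕ × ℕ) ∈ Finset.HasAntidiagonal.antidiagonal (2 * a) :=
          Finset.HasAntidiagonal.mem_antidiagonal.2 (show a + a = 2 * a by ring)
        exact Finset.single_le_sum (f := fun ij : ℕ × ℕ => (2 * a).choose ij.1 * (2 * a).choose ij.2)
          (fun _ _ => Nat.zero_le _) hmem
      rw [show a + a = 2 * a by ring] at h1
      calc primorial (2 * a) ≤ primorial a * (2 * a).choose a := h1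
        _ < (2 * a).choose a * (2 * a).choose a :=
            Nat.mul_lt_mul_of_pos_right h2 (Nat.choose_pos (by omega))
        _ ≤ _ := h3
    · -- odd
      rcases Nat.eq_zero_or_pos a with rfl | ha
      · decide
      have h1 := primorial_add_le (show a ≤ a + 1 by omega)
      have h2 := ih (a + 1) (by omega) (by omega)
      rw [show a + 1 + a = 2 * a + 1 by ring] at h1
      have h5 : (2 * (a + 1)).choose (a + 1) = 2 * (2 * a + 1).choose (a + 1) := by
        have := Nat.choose_succ_succ (2 * a + 1) a
        rw [show 2 * (a + 1) = (2 * a + 1) + 1 by ring, this]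
        have h6 : (2 * a + 1).choose a = (2 * a + 1).choose (a + 1) :=
          (Nat.choose_symm_of_eq_add (by ring)).symm
        rw [h6]; ring
      have h3 : 2 * ((2 * a + 1).choose (a + 1) * (2 * a + 1).choose (a + 1)) ≤
          (2 * (2 * a + 1)).choose (2 * a + 1) := by
        have h4 := Nat.add_choose_eq (2 * a + 1) (2 * a + 1) (2 * a + 1)
        have e : 2 * (2 * a + 1) = (2 * a + 1) + (2 * a + 1) := by ring
        rw [e, h4]
        have h7 : ({(a, a + 1), (a + 1, a)} : Finset (ℕ × ℕ)) ⊆ Finset.HasAntidiagonal.antidiagonal (2 * a + 1) := by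
          intro x hx
          rw [Finset.mem_insert, Finset.mem_singleton] at hx
          rw [Finset.HasAntidiagonal.mem_antidiagonal]
          rcases hx with rfl | rfl <;> simp <;> ring
        refine le_trans ?_ (Finset.sum_le_sum_of_subset h7)
        rw [Finset.sum_pair (by simp)]
        have h6 : (2 * a + 1).choose a = (2 * a + 1).choose (a + 1) :=
          (Nat.choose_symm_of_eq_add (by ring)).symm
        simp only [h6]
        exact le_of_eq (by ring)
      calc primorial (2 * a + 1) ≤ primorial (a + 1) * (2 * a + 1).choose (a + 1) := h1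
        _ < (2 * (a + 1)).choose (a + 1) * (2 * a + 1).choose (a + 1) :=
            Nat.mul_lt_mul_of_pos_right h2 (Nat.choose_pos (by omega))
        _ = 2 * ((2 * a + 1).choose (a + 1) * (2 * a + 1).choose (a + 1)) := by rw [h5]; ring
        _ ≤ _ := h3

/-- Square-free version of Sylvester's theorem. -/
theorem exists_prime_gt {n k : ℕ} (hk : 1 ≤ k) (hkn : 2 * k ≤ n) (hsq : Squarefree (n.choose k)) :
    ∃ l : ℕ, l.Prime ∧ k < l ∧ l ∣ n.choose k := by
  by_contra hcon
  push Not at hcon
  have h1 : n.choose k ≤ primorial k := by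
    have h2 : n.choose k = ∏ p ∈ (n.choose k).primeFactors, p :=
      (Nat.prod_primeFactors_of_squarefree hsq).symm
    rw [h2, primorial]
    apply Finset.prod_le_prod_of_subset_of_one_le'
    · intro p hp
      rw [Nat.mem_primeFactors] at hp
      rw [Finset.mem_filter, Finset.mem_range]
      refine ⟨?_, hp.1⟩
      by_contra h
      exact hcon p hp.1 (by omega) hp.2.1
    · intro p hp _
      exact (Finset.mem_filter.1 hp).2.one_lt.le
  have h2 := primorial_lt_choose k hk
  have h3 : (2 * k).choose k ≤ n.choose k := Nat.choose_le_choose k hkn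
  omega

/-- Odd version. -/
theorem exists_odd_prime_gt {n k : ℕ} (hn : 3 ≤ n) (hk : 1 ≤ k) (hkn : 2 * k ≤ n)
    (hsq : Squarefree (n.choose k)) : ∃ l : ℕ, l.Prime ∧ l ≠ 2 ∧ k < l ∧ l ∣ n.choose k := by
  rcases Nat.lt_or_ge 1 k with h | h
  · obtain ⟨l, hl, hkl, hld⟩ := exists_prime_gt hk hkn hsq
    exact ⟨l, hl, by omega, hkl, hld⟩
  · have hk1 : k = 1 := by omega
    subst hk1
    rw [Nat.choose_one_right] at hsq ⊢
    by_contra hcon
    push Not at hcon
    have h1 : n ∣ 2 := by
      have h2 : n = ∏ p ∈ n.primeFactors, p := (Nat.prod_primeFactors_of_squarefree hsq).symm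
      have h3 : n.primeFactors ⊆ {2} := by
        intro p hp
        rw [Nat.mem_primeFactors] at hp
        rw [Finset.mem_singleton]
        by_contra h
        exact hcon p hp.1 h hp.1.one_lt hp.2.1
      rw [h2]
      have h4 := Finset.prod_dvd_prod_of_subset _ _ (fun p => p) h3
      rwa [Finset.prod_singleton] at h4
    have := Nat.le_of_dvd (by norm_num) h1
    omega

/-- Lucas: `k ≤ n % l` is impossible when `l ∣ C(n,k)`, `k < l`. -/
theorem mod_lt_of_dvd_choose {n k l : ℕ} (hl : l.Prime) (hkl : k < l) (hd : l ∣ n.choose k) :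
    n % l < k := by
  by_contra hcon
  push Not at hcon
  have : Fact l.Prime := ⟨hl⟩
  have h1 := Choose.choose_modEq_choose_mod_mul_choose_div_nat (n := n) (k := k) (p := l)
  rw [Nat.mod_eq_of_lt hkl, Nat.div_eq_of_lt hkl, Nat.choose_zero_right, mul_one] at h1
  have h2 : l ∣ (n % l).choose k := (Nat.ModEq.dvd_iff h1 dvd_rfl).1 hd
  have h3 : (n % l).choose k ∣ (n % l)! := by
    rw [← Nat.choose_mul_factorial_mul_factorial hcon, mul_assoc]
    exact Dvd.intro _ rfl
  have h4 := (Nat.Prime.dvd_factorial hl).1 (h2.trans h3)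
  exact absurd (Nat.mod_lt n hl.pos) (by omega)

end Cfsg.Agent.H394.SqNum
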