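import Mathlib
import Cfsg.Agent.H895.AffBasic

/-!
# The affine bound: invariant subgroups and abelian normal subgroups
-/

set_option autoImplicit false

namespace Cfsg.Agent.H394.AffAb

open MulAction Cfsg.Agent.H895

section

variable {V H : Type*} [CommGroup V] [Finite V] [Group H] [Finite H] [MulDistribMulAction H V]

/-- The index of `R` divides the size of every invariant set missing `1`. -/
theorem index_dvd_of_inv (R : Subgroup H) (hR : ∀ h : H, h ∉ R → ∀ v : V, h • v = v → v = 1)
    (S : Set V) (hS : ∀ h : H, ∀ v ∈ S, h • v ∈ S) (h1 : (1 : V) ∉ S) :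
    R.index ∣ Nat.card S := by
  let X : SubMulAction H V := ⟨S, fun h {v} hv => hS h v hv⟩
  have key := Cfsg.Agent.H393.index_dvd_card_of_stabilizer_le (H := H) (X := X) R ?_
  · exact key
  · intro x h hx
    by_contra hh
    rw [mem_stabilizer_iff] at hx
    have h2 : h • (x : V) = x := congrArg Subtype.val hx
    have h3 := hR h hh _ h2
    exact h1 (h3 ▸ x.2)

theorem index_dvd_card_sub_one (R : Subgroup H)
    (hR : ∀ h : H, h ∉ R → ∀ v : V, h • v = v → v = 1)
    (W : Subgroup V) (hW : ∀ h : H, ∀ w ∈ W, h • w ∈ W) :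
    R.index ∣ Nat.card W - 1 := by
  have key := index_dvd_of_inv R hR ((W : Set V) \ {1}) ?_ ?_
  · have h2 : ((W : Set V) \ {1}).ncard = (W : Set V).ncard - 1 :=
      Set.ncard_sdiff_singleton_of_mem (one_mem W)
    rw [Nat.card_coe_set_eq, h2] at key
    exact key
  · rintro h v ⟨hv, hv1⟩
    refine ⟨hW h v hv, ?_⟩
    intro h3
    apply hv1
    have h4 : h • v = 1 := h3
    rw [← smul_one h] at h4
    exact MulAction.injective h h4
  · intro h
    exact h.2 rfl

theorem inv_bound (R : Subgroup H) (_hRn : R.Normal)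
    (hR : ∀ h : H, h ∉ R → ∀ v : V, h • v = v → v = 1)
    (W : Subgroup V) (hW : ∀ h : H, ∀ w ∈ W, h • w ∈ W) (hW1 : W ≠ ⊥) (hW2 : W ≠ ⊤) :
    (R.index + 1) ^ 2 ≤ Nat.card V := by
  have h1 := index_dvd_card_sub_one R hR W hW
  have h2 := index_dvd_card_sub_one R hR (⊤ : Subgroup V) (fun _ _ _ => Subgroup.mem_top _)
  rw [Subgroup.card_top] at h2
  have h3 : Nat.card W * W.index = Nat.card V := W.card_mul_index
  have h4 : 1 < Nat.card W := Subgroup.one_lt_card_iff_ne_bot W |>.2 hW1
  have h5 : W.index ≠ 1 := fun h => hW2 (Subgroup.index_eq_one.1 h)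
  have h6 : W.index ≠ 0 := Subgroup.index_ne_zero_of_finite
  have h7 : R.index ∣ W.index - 1 := by
    have e : Nat.card V - 1 = (Nat.card W - 1) * W.index + (W.index - 1) := by
      rw [← h3]
      obtain ⟨a, ha⟩ : ∃ a, Nat.card W = a + 1 := ⟨Nat.card W - 1, by omega⟩
      obtain ⟨b, hb⟩ : ∃ b, W.index = b + 1 := ⟨W.index - 1, by omega⟩
      rw [ha, hb]
      simp only [Nat.add_sub_cancel]
      have : (a + 1) * (b + 1) = a * (b + 1) + b + 1 := by ring
      omega
    rw [e] at h2
    exact (Nat.dvd_add_right (Dvd.dvd.mul_right h1 _)).1 h2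
  have h8 : R.index + 1 ≤ Nat.card W := by
    have := Nat.le_of_dvd (by omega) h1
    omega
  have h9 : R.index + 1 ≤ W.index := by
    have := Nat.le_of_dvd (by omega) h7
    omega
  rw [pow_two, ← h3]
  exact Nat.mul_le_mul h8 h9

theorem numeric (t u : ℕ) : (((t + 2) * u) + 2) ^ 2 ≤ 4 * (1 + u) ^ (t + 2) := by
  induction t with
  | zero => exact le_of_eq (by ring)
  | succ t ih =>
    have h1 : ((t + 1 + 2) * u + 2) ^ 2 ≤ (1 + u) * ((t + 2) * u + 2) ^ 2 := by
      have e : (1 + u) * ((t + 2) * u + 2) ^ 2 =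
        ((t + 1 + 2) * u + 2) ^ 2 + u * (t ^ 2 * u ^ 2 + 4 * t * u ^ 2 + 4 * u ^ 2 +
          2 * t * u + 3 * u) := by ring
      rw [e]; exact Nat.le_add_right _ _
    calc ((t + 1 + 2) * u + 2) ^ 2 ≤ (1 + u) * ((t + 2) * u + 2) ^ 2 := h1
      _ ≤ (1 + u) * (4 * (1 + u) ^ (t + 2)) := Nat.mul_le_mul_left _ ih
      _ = 4 * (1 + u) ^ (t + 1 + 2) := by ring

omit [Finite V] [Finite H] in
/-- Fixed points of a conjugate. -/
theorem mem_fixS_conj (K : Subgroup H) (h : H) (v : V) :
    v ∈ fixS V (K.map (MulAut.conj h).toMonoidHom) ↔ h⁻¹ • v ∈ fixS V K := by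
  rw [mem_fixS, mem_fixS]
  constructor
  · intro hv k hk
    have h1 := hv (h * k * h⁻¹) ⟨k, hk, rfl⟩
    rw [mul_smul, mul_smul] at h1
    rw [eq_inv_smul_iff]
    exact h1
  · rintro hv x ⟨k, hk, rfl⟩
    have h1 := hv k hk
    show (h * k * h⁻¹) • v = v
    rw [mul_smul, mul_smul, h1, smul_inv_smul]

omit [Finite V] [Finite H] in
theorem card_fixS_map (K : Subgroup H) (h : H) :
    Nat.card (fixS V (K.map (MulAut.conj h).toMonoidHom)) = Nat.card (fixS V K) := by
  refine Nat.card_congr ⟨fun v => ⟨h⁻¹ • (v : V), (mem_fixS_conj K h (v : V)).1 v.2⟩,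
    fun v => ⟨h • (v : V), (mem_fixS_conj K h (h • (v : V))).2
      (by rw [inv_smul_smul]; exact v.2)⟩, ?_, ?_⟩
  · intro v; apply Subtype.ext; simp
  · intro v; apply Subtype.ext; simp

omit [Finite V] [CommGroup V] [MulDistribMulAction H V] in
theorem card_map_conj (K : Subgroup H) (h : H) :
    Nat.card (K.map (MulAut.conj h).toMonoidHom) = Nat.card K :=
  Subgroup.card_map_of_injective (MulEquiv.injective _)

omit [Finite V] [CommGroup V] [MulDistribMulAction H V] in
theorem map_conj_eq (K : Subgroup H) (h : H) (hle : K.map (MulAut.conj h).toMonoidHom ≤ K) :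
    K.map (MulAut.conj h).toMonoidHom = K :=
  Subgroup.eq_of_le_of_card_ge hle (card_map_conj K h).ge

set_option maxHeartbeats 400000 in
theorem ab_bound [FaithfulSMul H V] (R : Subgroup H) (hRn : R.Normal)
    (hR : ∀ h : H, h ∉ R → ∀ v : V, h • v = v → v = 1) (A : Subgroup H) (hAn : A.Normal)
    (hAR : A ≤ R) (hAc : ∀ x ∈ A, ∀ y ∈ A, x * y = y * x)
    (hcop : Nat.Coprime (Nat.card A) (Nat.card V))
    (hne : ∃ a ∈ A, a ≠ 1 ∧ ∃ v : V, v ≠ 1 ∧ a • v = v) :
    (R.index + 1) ^ 2 ≤ Nat.card V := by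
  classical
  obtain ⟨a, haA, ha1, v, hv1, hav⟩ := hne
  -- choose `K` maximal
  have hfin : ({K : Subgroup H | K ≤ A ∧ a ∈ K ∧ fixS V K ≠ ⊥}).Finite := Set.toFinite _
  have hnem : ({K : Subgroup H | K ≤ A ∧ a ∈ K ∧ fixS V K ≠ ⊥}).Nonempty := by
    refine ⟨Subgroup.zpowers a, ?_, Subgroup.mem_zpowers a, ?_⟩
    · rw [Subgroup.zpowers_le]; exact haA
    · intro h
      apply hv1
      have : v ∈ fixS V (Subgroup.zpowers a) := mem_fixS_zpowers.2 hav
      rw [h, Subgroup.mem_bot] at this
      exact this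
  obtain ⟨K, ⟨hKA, haK, hKf⟩, hKmax⟩ := Set.exists_max_image _
    (fun K : Subgroup H => Nat.card K) hfin hnem
  have hmax : ∀ L : Subgroup H, L ≤ A → K ≤ L → fixS V L ≠ ⊥ → L = K := by
    intro L hLA hKL hL
    have h1 := hKmax L ⟨hLA, hKL haK, hL⟩
    exact (Subgroup.eq_of_le_of_card_ge hKL h1).symm
  set N : Subgroup H := Subgroup.normalizer (K : Set H) with hN
  have hNmem : ∀ h : H, h ∈ N ↔ K.map (MulAut.conj h).toMonoidHom = K := by
    intro h
    rw [hN, Subgroup.mem_normalizer_iff]
    constructor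
    · intro hh
      ext x
      rw [Subgroup.mem_map]
      constructor
      · rintro ⟨k, hk, rfl⟩
        exact (hh k).1 hk
      · intro hx
        refine ⟨h⁻¹ * x * h, (hh _).2 ?_, ?_⟩
        · have : h * (h⁻¹ * x * h) * h⁻¹ = x := by group
          rw [this]; exact hx
        · show h * (h⁻¹ * x * h) * h⁻¹ = x
          group
    · intro hh x
      constructor
      · intro hx
        rw [← hh]
        exact ⟨x, hx, rfl⟩
      · intro hx
        rw [← hh] at hx
        obtain ⟨k, hk, hk2⟩ := hx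
        have : h * k * h⁻¹ = h * x * h⁻¹ := hk2
        have : k = x := by simpa using this
        rw [← this]; exact hk
  have hAN : A ≤ N := by
    intro x hx
    rw [hN, Subgroup.mem_normalizer_iff]
    intro k
    constructor
    · intro hk
      rw [hAc x hx k (hKA hk), mul_inv_cancel_right]; exact hk
    · intro hk
      have h1 : x⁻¹ * (x * k * x⁻¹) * x = k := by group
      have h2 := hAc x⁻¹ (inv_mem hx) _ (hKA hk)
      rw [h2, inv_mul_cancel_right] at h1
      rw [h1] at hk
      exact hk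
  obtain ⟨w, hwK, hw1⟩ : ∃ w ∈ fixS V K, w ≠ 1 := by
    by_contra hcon
    push Not at hcon
    exact hKf ((Subgroup.eq_bot_iff_forall _).2 hcon)
  by_cases hNt : N = ⊤
  · -- `t = 1`
    refine inv_bound R hRn hR (fixS V K) ?_ hKf ?_
    · intro h w hw
      have h1 : h⁻¹ ∈ N := by rw [hNt]; exact Subgroup.mem_top _
      rw [hNmem] at h1
      rw [← h1] at hw
      have h2 := (mem_fixS_conj K h⁻¹ w).1 hw
      rwa [inv_inv] at h2
    · intro h
      apply ha1
      apply FaithfulSMul.eq_of_smul_eq_smul (α := V)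
      intro x
      have : x ∈ fixS V K := by rw [h]; exact Subgroup.mem_top _
      rw [one_smul]
      exact this a haK
  · -- `t ≥ 2`
    set q := Nat.card (fixS V K) with hq
    have hqt : q ^ N.index ≤ Nat.card V := by
      have : Fintype (H ⧸ N) := Fintype.ofFinite _
      have key := indep (V := V) (ι := H ⧸ N)
        (fun i => K.map (MulAut.conj i.out).toMonoidHom) ?_ ?_ ?_
      · rw [Finset.prod_congr rfl (g := fun _ => q) (fun i _ => card_fixS_map K i.out)] at key
        rw [Finset.prod_const, Finset.card_univ, ← Nat.card_eq_fintype_card] at key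
        exact key
      · rintro i j x ⟨k, hk, rfl⟩ y ⟨k', hk', rfl⟩
        exact hAc _ (hAn.conj_mem _ (hKA hk) _) _ (hAn.conj_mem _ (hKA hk') _)
      · intro i j hij u hui huj
        by_contra hu
        apply hij
        -- conjugate back
        set L : Subgroup H := K ⊔ K.map (MulAut.conj (i.out⁻¹ * j.out)).toMonoidHom with hL
        have hLA : L ≤ A := by
          refine sup_le hKA ?_
          rintro _ ⟨k, hk, rfl⟩
          exact hAn.conj_mem _ (hKA hk) _
        have hLf : fixS V L ≠ ⊥ := by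
          intro h
          have h1 : (i.out)⁻¹ • u ∈ fixS V L := by
            rw [hL, fixS_sup, Subgroup.mem_inf]
            refine ⟨(mem_fixS_conj K _ u).1 hui, ?_⟩
            rw [mem_fixS_conj, mul_inv_rev, inv_inv, smul_smul, mul_assoc, mul_inv_cancel, mul_one]
            exact (mem_fixS_conj K _ u).1 huj
          rw [h, Subgroup.mem_bot] at h1
          apply hu
          rw [← smul_one (i.out)⁻¹] at h1
          exact MulAction.injective _ h1
        have hLK := hmax L hLA le_sup_left hLf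
        have h2 : K.map (MulAut.conj (i.out⁻¹ * j.out)).toMonoidHom ≤ K :=
          (show K.map (MulAut.conj (i.out⁻¹ * j.out)).toMonoidHom ≤ L from
            le_sup_right).trans (le_of_eq hLK)
        have h3 : K.map (MulAut.conj (i.out⁻¹ * j.out)).toMonoidHom = K :=
          map_conj_eq K _ h2
        have h4 : i.out⁻¹ * j.out ∈ N := (hNmem _).2 h3
        have h5 : (QuotientGroup.mk i.out : H ⧸ N) = QuotientGroup.mk j.out :=
          QuotientGroup.eq.2 h4
        have h6 : (QuotientGroup.mk i.out : H ⧸ N) = i := QuotientGroup.out_eq' i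
        have h7 : (QuotientGroup.mk j.out : H ⧸ N) = j := QuotientGroup.out_eq' j
        rw [← h6, ← h7]
        exact h5
      · intro i
        rw [card_map_conj]
        exact Nat.Coprime.coprime_dvd_left (Subgroup.card_dvd_of_le hKA) hcop
    -- orbit of `w`
    set S : Subgroup H := stabilizer H w ⊓ N with hS
    have hSR : S ≤ R := by
      intro h hh
      by_contra hhR
      exact hw1 (hR h hhR w hh.1)
    have hKS : K ≤ S := by
      intro k hk
      exact ⟨hwK k hk, hAN (hKA hk)⟩
    have hSA : ¬ A ≤ S := by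
      intro hAS
      have hAK : A = K := by
        apply hmax A le_rfl hKA
        intro h
        apply hw1
        have : w ∈ fixS V A := fun x hx => (hAS hx).1
        rw [h, Subgroup.mem_bot] at this
        exact this
      apply hNt
      rw [hN, ← hAK]
      exact Subgroup.normalizer_eq_top_iff.2 hAn
    have hSN : S ≤ N := inf_le_right
    -- `[N : S] ≤ q - 1`
    have horb : S.relIndex N ≤ q - 1 := by
      have h1 : S.relIndex N = Nat.card (orbit N w) := by
        rw [Nat.card_coe_set_eq, ← MulAction.index_stabilizer]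
        rw [Subgroup.relIndex]
        congr 1
        ext x
        rw [Subgroup.mem_subgroupOf, mem_stabilizer_iff, hS, Subgroup.mem_inf]
        constructor
        · intro h; exact h.1
        · intro h; exact ⟨h, x.2⟩
      rw [h1]
      have h2 : ((fixS V K : Set V) \ {1}).ncard = (fixS V K : Set V).ncard - 1 :=
        Set.ncard_sdiff_singleton_of_mem (one_mem (fixS V K))
      have h3 : (fixS V K : Set V).ncard = q := rfl
      rw [h3] at h2
      rw [← h2, Nat.card_coe_set_eq]
      apply Set.ncard_le_ncard _ (Set.toFinite _)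
      rintro _ ⟨x, rfl⟩
      refine ⟨?_, ?_⟩
      · show (x : H) • w ∈ fixS V K
        have hx : (x : H)⁻¹ ∈ N := inv_mem x.2
        rw [hNmem] at hx
        have h4 := hwK
        rw [← hx] at h4
        have h5 := (mem_fixS_conj K (x : H)⁻¹ w).1 h4
        rwa [inv_inv] at h5
      · intro h4
        have h5 : (x : H) • w = 1 := h4
        rw [← smul_one (x : H)] at h5
        exact hw1 (MulAction.injective _ h5)
    have hSRN : S ≤ R ⊓ N := le_inf hSR hSN
    have h2S : 2 ≤ S.relIndex (R ⊓ N) := by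
      have h0 : S.relIndex (R ⊓ N) ≠ 0 := Subgroup.index_ne_zero_of_finite
      have h1 : S.relIndex (R ⊓ N) ≠ 1 := by
        intro h
        rw [Subgroup.relIndex_eq_one] at h
        exact hSA ((le_inf hAR hAN).trans h)
      omega
    have hmul : S.relIndex (R ⊓ N) * (R ⊓ N).relIndex N = S.relIndex N :=
      Subgroup.relIndex_mul_relIndex S (R ⊓ N) N hSRN inf_le_right
    have he1 : 2 * (R ⊓ N).relIndex N ≤ q - 1 := by
      calc 2 * (R ⊓ N).relIndex N ≤ S.relIndex (R ⊓ N) * (R ⊓ N).relIndex N :=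
            Nat.mul_le_mul_right _ h2S
        _ = S.relIndex N := hmul
        _ ≤ q - 1 := horb
    have he : R.index ≤ (R ⊓ N).relIndex N * N.index := by
      have h1 : (R ⊓ N).relIndex N * N.index = (R ⊓ N).index :=
        Subgroup.relIndex_mul_index inf_le_right
      rw [h1]
      exact Nat.le_of_dvd (Nat.pos_of_ne_zero Subgroup.index_ne_zero_of_finite)
        (Subgroup.index_dvd_of_le inf_le_left)
    have ht : 2 ≤ N.index := by
      have h0 : N.index ≠ 0 := Subgroup.index_ne_zero_of_finite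
      have h1 : N.index ≠ 1 := fun h => hNt (Subgroup.index_eq_one.1 h)
      omega
    obtain ⟨t, ht'⟩ : ∃ t, N.index = t + 2 := ⟨N.index - 2, by omega⟩
    have hq1 : 1 ≤ q := Nat.card_pos
    obtain ⟨u, hu⟩ : ∃ u, q = 1 + u := ⟨q - 1, by omega⟩
    have h2e : 2 * R.index ≤ (t + 2) * u := by
      have h1 : q - 1 = u := by omega
      rw [h1] at he1
      calc 2 * R.index ≤ 2 * ((R ⊓ N).relIndex N * N.index) := Nat.mul_le_mul_left _ he
        _ = (2 * (R ⊓ N).relIndex N) * N.index := by ring
        _ ≤ u * N.index := Nat.mul_le_mul_right _ he1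
        _ = (t + 2) * u := by rw [ht']; ring
    have h4 : 4 * (R.index + 1) ^ 2 ≤ 4 * Nat.card V := by
      calc 4 * (R.index + 1) ^ 2 = (2 * R.index + 2) ^ 2 := by ring
        _ ≤ ((t + 2) * u + 2) ^ 2 := Nat.pow_le_pow_left (by omega) 2
        _ ≤ 4 * (1 + u) ^ (t + 2) := numeric t u
        _ = 4 * q ^ N.index := by rw [ht', hu]
        _ ≤ 4 * Nat.card V := Nat.mul_le_mul_left _ hqt
    omega

end

end Cfsg.Agent.H394.AffAb
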