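import Mathlib

/-!
# Subgroups of index 6 in a simple group of order 360
-/

set_option autoImplicit false

namespace Cfsg.Agent.H394.SqA6

open MulAction Equiv.Perm

/-- An element of order `3` on six points is a 3-cycle or a product of two. -/
theorem cycleType_of_order_three {α : Type*} [Fintype α] [DecidableEq α] (h6 : Fintype.card α = 6)
    (σ : Equiv.Perm α) (h3 : orderOf σ = 3) : σ.cycleType = {3} ∨ σ.cycleType = {3, 3} := by
  have h1 : ∀ n ∈ σ.cycleType, n = 3 := by
    intro n hn
    have h2 := Equiv.Perm.dvd_of_mem_cycleType hn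
    rw [h3] at h2
    rcases (Nat.dvd_prime Nat.prime_three).1 h2 with h | h
    · have := Equiv.Perm.two_le_of_mem_cycleType hn
      omega
    · exact h
  have h2 := Multiset.eq_replicate_card.2 h1
  have h4 : σ.cycleType.sum ≤ 6 := by
    rw [Equiv.Perm.sum_cycleType, ← h6]
    exact Finset.card_le_univ _
  have h5 : σ.cycleType.sum = Multiset.card σ.cycleType * 3 := by
    conv_lhs => rw [h2]
    rw [Multiset.sum_replicate, smul_eq_mul]
  have h7 : Multiset.card σ.cycleType ≠ 0 := by
    intro h
    rw [Multiset.card_eq_zero, Equiv.Perm.cycleType_eq_zero] at h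
    rw [h, orderOf_one] at h3
    omega
  have h8 : Multiset.card σ.cycleType = 1 ∨ Multiset.card σ.cycleType = 2 := by omega
  rcases h8 with h | h
  · left; rw [h2, h]; rfl
  · right; rw [h2, h]; rfl

theorem cycleType_of_fixed {α : Type*} [Fintype α] [DecidableEq α] (h6 : Fintype.card α = 6)
    (σ : Equiv.Perm α) (h3 : orderOf σ = 3) (a : α) (ha : σ a = a) : σ.cycleType = {3} := by
  rcases cycleType_of_order_three h6 σ h3 with h | h
  · exact h
  · exfalso
    have h1 : σ.support.card = 6 := by
      rw [← Equiv.Perm.sum_cycleType, h]; rfl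
    have h2 : σ.support = Finset.univ := by
      rw [← Finset.card_eq_iff_eq_univ, h1, h6]
    have h3 : a ∈ σ.support := by rw [h2]; exact Finset.mem_univ _
    exact Equiv.Perm.mem_support.1 h3 ha

theorem cycleType_of_free {α : Type*} [Fintype α] [DecidableEq α] (h6 : Fintype.card α = 6)
    (σ : Equiv.Perm α) (h3 : orderOf σ = 3) (hf : ∀ a, σ a ≠ a) : σ.cycleType = {3, 3} := by
  rcases cycleType_of_order_three h6 σ h3 with h | h
  · exfalso
    have h1 : σ.support.card = 3 := by
      rw [← Equiv.Perm.sum_cycleType, h]; rfl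
    have h2 : σ.support = Finset.univ := by
      ext a
      simp [hf a]
    rw [h2, Finset.card_univ, h6] at h1
    omega
  · exact h

/-- Two products of two 3-cycles are conjugate in `A₆`. -/
theorem isConj_free {α : Type*} [Fintype α] [DecidableEq α]
    (σ τ : alternatingGroup α) (hσ : (σ : Equiv.Perm α).cycleType = {3, 3})
    (hτ : (τ : Equiv.Perm α).cycleType = {3, 3}) : IsConj σ τ := by
  have hc : IsConj (σ : Equiv.Perm α) (τ : Equiv.Perm α) :=
    isConj_iff_cycleType_eq.2 (hσ.trans hτ.symm)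
  obtain ⟨π, hπ⟩ := isConj_iff.1 hc
  rcases Int.units_eq_one_or (Equiv.Perm.sign π) with h | h
  · rw [isConj_iff]
    exact ⟨⟨π, mem_alternatingGroup.mpr h⟩, Subtype.val_injective hπ⟩
  · have h1 : ¬ Subgroup.centralizer {(σ : Equiv.Perm α)} ≤ alternatingGroup α := by
      intro h2
      have h3 := Equiv.Perm.count_le_one_of_centralizer_le_alternating h2 3
      rw [hσ] at h3
      revert h3; decide
    obtain ⟨c, hc1, hc2⟩ := SetLike.not_le_iff_exists.1 h1
    rw [Subgroup.mem_centralizer_singleton_iff] at hc1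
    have hc3 : Equiv.Perm.sign c = -1 := by
      rcases Int.units_eq_one_or (Equiv.Perm.sign c) with h' | h'
      · exact absurd (mem_alternatingGroup.mpr h') hc2
      · exact h'
    rw [isConj_iff]
    refine ⟨⟨π * c, mem_alternatingGroup.mpr (by rw [map_mul, h, hc3]; rfl)⟩,
      Subtype.val_injective ?_⟩
    show π * c * (σ : Equiv.Perm α) * (π * c)⁻¹ = τ
    rw [← hπ, mul_inv_rev]
    have e : c * (σ : Equiv.Perm α) * c⁻¹ = σ := by rw [hc1]; group
    calc π * c * (σ : Equiv.Perm α) * (c⁻¹ * π⁻¹) = π * (c * (σ : Equiv.Perm α) * c⁻¹) * π⁻¹ := by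
          group
      _ = _ := by rw [e]

/-- A simple non-abelian group of order 360 with a subgroup `M` of index 6: the elements of order
3 conjugate into `M` form a single class, and those not conjugate into `M` form one too. -/
theorem two_classes {T : Type*} [Group T] [Finite T] [IsSimpleGroup T]
    (hna : ∃ a b : T, a * b ≠ b * a) (hcard : Nat.card T = 360) (M : Subgroup T)
    (hM : M.index = 6) :
    (∃ g : T, orderOf g = 3 ∧ ∀ t : T, t * g * t⁻¹ ∉ M) ∧
    (∃ g : T, orderOf g = 3 ∧ g ∈ M) ∧
    (∀ g h : T, orderOf g = 3 → orderOf h = 3 → (∃ t : T, t * g * t⁻¹ ∈ M) →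
      (∃ t : T, t * h * t⁻¹ ∈ M) → IsConj g h) ∧
    (∀ g h : T, orderOf g = 3 → orderOf h = 3 → (¬ ∃ t : T, t * g * t⁻¹ ∈ M) →
      (¬ ∃ t : T, t * h * t⁻¹ ∈ M) → IsConj g h) := by
  classical
  have : Fintype (T ⧸ M) := Fintype.ofFinite _
  have h6 : Fintype.card (T ⧸ M) = 6 := by
    rw [← Nat.card_eq_fintype_card]; exact hM
  let f : T →* Equiv.Perm (T ⧸ M) := MulAction.toPermHom T (T ⧸ M)
  have hker : f.ker = ⊥ := by
    rcases IsSimpleGroup.eq_bot_or_eq_top_of_normal f.ker inferInstance with h | h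
    · exact h
    · exfalso
      have h1 : M.normalCore = f.ker := Subgroup.normalCore_eq_ker M
      have h2 : f.ker ≤ M := h1 ▸ Subgroup.normalCore_le M
      rw [h] at h2
      rw [top_le_iff.1 h2, Subgroup.index_top] at hM
      omega
  have hinj : Function.Injective f := (MonoidHom.ker_eq_bot_iff f).1 hker
  have hsign : ∀ t : T, Equiv.Perm.sign (f t) = 1 := by
    let s : T →* ℤˣ := Equiv.Perm.sign.comp f
    have hs : s.ker = ⊤ := by
      rcases IsSimpleGroup.eq_bot_or_eq_top_of_normal s.ker inferInstance with h | h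
      · exfalso
        obtain ⟨a, b, hab⟩ := hna
        apply hab
        apply (MonoidHom.ker_eq_bot_iff s).1 h
        rw [map_mul, map_mul, mul_comm]
      · exact h
    intro t
    have : t ∈ s.ker := by rw [hs]; exact Subgroup.mem_top _
    exact this
  let F : T →* alternatingGroup (T ⧸ M) :=
    f.codRestrict (alternatingGroup (T ⧸ M)) (fun t => mem_alternatingGroup.2 (hsign t))
  have hFv : ∀ t, (F t : Equiv.Perm (T ⧸ M)) = f t := fun t => rfl
  have hFinj : Function.Injective F := fun a b h => hinj (congrArg Subtype.val h)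
  have hnt : Nontrivial (T ⧸ M) := by
    rw [← Fintype.one_lt_card_iff_nontrivial, h6]; omega
  have hAc : Nat.card (alternatingGroup (T ⧸ M)) = 360 := by
    rw [nat_card_alternatingGroup, Nat.card_eq_fintype_card, h6]; rfl
  have hFbij : Function.Bijective F := by
    have h1 := (Nat.bijective_iff_injective_and_card F).2 ⟨hFinj, by rw [hcard, hAc]⟩
    exact h1
  let E : T ≃* alternatingGroup (T ⧸ M) := MulEquiv.ofBijective F hFbij
  have hEF : ∀ t, E t = F t := fun _ => rfl
  have hord : ∀ g : T, orderOf (f g) = orderOf g := fun g => orderOf_injective f hinj g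
  -- fixed points
  have hfix : ∀ g : T, (∃ t : T, t * g * t⁻¹ ∈ M) ↔ ∃ a, f g a = a := by
    intro g
    constructor
    · rintro ⟨t, ht⟩
      refine ⟨((t⁻¹ : T) : T ⧸ M), ?_⟩
      show ((g * t⁻¹ : T) : T ⧸ M) = ((t⁻¹ : T) : T ⧸ M)
      rw [eq_comm, QuotientGroup.eq, inv_inv, ← mul_assoc]
      exact ht
    · rintro ⟨a, ha⟩
      induction a using QuotientGroup.induction_on with
      | H t =>
        refine ⟨t⁻¹, ?_⟩
        have h1 : ((g * t : T) : T ⧸ M) = (t : T ⧸ M) := ha
        rw [eq_comm, QuotientGroup.eq, ← mul_assoc] at h1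
        rw [inv_inv]
        exact h1
  have hconjlift : ∀ g h : T, IsConj (F g) (F h) → IsConj g h := by
    intro g h hc
    obtain ⟨c, hc⟩ := isConj_iff.1 hc
    obtain ⟨d, rfl⟩ := hFbij.2 c
    rw [isConj_iff]
    refine ⟨d, hFinj ?_⟩
    rw [map_mul, map_mul, map_inv]
    exact hc
  refine ⟨?_, ?_, ?_, ?_⟩
  · -- existence of an element of type (3,3)
    obtain ⟨σ, hσ⟩ : ∃ σ : Equiv.Perm (T ⧸ M), σ.cycleType = {3, 3} := by
      rw [Equiv.Perm.exists_with_cycleType_iff, h6]
      constructor
      · decide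
      · decide
    have hσs : Equiv.Perm.sign σ = 1 := by
      rw [Equiv.Perm.sign_of_cycleType, hσ]; decide
    obtain ⟨g, hg⟩ := hFbij.2 ⟨σ, mem_alternatingGroup.2 hσs⟩
    have hfg : f g = σ := congrArg Subtype.val hg
    have ho : orderOf σ = 3 := by
      rw [← Equiv.Perm.lcm_cycleType, hσ]; decide
    refine ⟨g, ?_, ?_⟩
    · rw [← hord, hfg, ho]
    · intro t ht
      obtain ⟨a, ha⟩ := (hfix g).1 ⟨t, ht⟩
      have h1 := cycleType_of_fixed h6 (f g) (by rw [hfg, ho]) a ha
      rw [hfg, hσ] at h1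
      revert h1; decide
  · have : Fact (Nat.Prime 3) := ⟨Nat.prime_three⟩
    have h1 : Nat.card M = 60 := by
      have := M.card_mul_index
      rw [hM, hcard] at this
      omega
    obtain ⟨g, hg⟩ := exists_prime_orderOf_dvd_card' (G := M) 3 (by rw [h1]; norm_num)
    exact ⟨g, by rw [Subgroup.orderOf_coe]; exact hg, g.2⟩
  · intro g h hg hh hgM hhM
    apply hconjlift
    apply alternatingGroup.isThreeCycle_isConj (by rw [Nat.card_eq_fintype_card, h6]; norm_num)
    · obtain ⟨a, ha⟩ := (hfix g).1 hgM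
      exact cycleType_of_fixed h6 (f g) (by rw [hord, hg]) a ha
    · obtain ⟨a, ha⟩ := (hfix h).1 hhM
      exact cycleType_of_fixed h6 (f h) (by rw [hord, hh]) a ha
  · intro g h hg hh hgM hhM
    apply hconjlift
    rw [hfix] at hgM hhM
    push Not at hgM hhM
    exact isConj_free _ _ (cycleType_of_free h6 (f g) (by rw [hord, hg]) hgM)
      (cycleType_of_free h6 (f h) (by rw [hord, hh]) hhM)

end Cfsg.Agent.H394.SqA6
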