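import Cfsg.Agent.H394.SqRed

/-!
# Elusive groups of square-free degree: minimal normal subgroups are abelian
-/

set_option autoImplicit false

namespace Cfsg.Agent.H394.SqMain

open MulAction Subgroup Cfsg.Agent.PermutationGroups.OnanScott Cfsg.Agent.H394.SqRed

section classes

variable {T : Type*} [Group T]

/-- Elements of order `3` conjugate into `M`. -/
def C1 (M : Subgroup T) (g : T) : Prop := orderOf g = 3 ∧ ∃ t : T, t * g * t⁻¹ ∈ M

theorem C1.conj {M : Subgroup T} {g : T} (h : C1 M g) (t : T) : C1 M (t * g * t⁻¹) := by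
  obtain ⟨h1, s, hs⟩ := h
  refine ⟨?_, s * t⁻¹, ?_⟩
  · have : orderOf (MulAut.conj t g) = orderOf g :=
      orderOf_injective (MulAut.conj t).toMonoidHom (MulAut.conj t).injective g
    rw [← h1, ← this]; rfl
  · have : s * t⁻¹ * (t * g * t⁻¹) * (s * t⁻¹)⁻¹ = s * g * s⁻¹ := by group
    rw [this]; exact hs

theorem C1.isConj {M : Subgroup T} {g h : T} (hg : C1 M g) (hc : IsConj g h) : C1 M h := by
  obtain ⟨c, rfl⟩ := isConj_iff.1 hc
  exact hg.conj c

variable {M : Subgroup T}
  (h1 : ∀ g h : T, C1 M g → C1 M h → IsConj g h)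
  (h2 : ∀ g h : T, orderOf g = 3 → orderOf h = 3 → ¬ C1 M g → ¬ C1 M h → IsConj g h)

include h1 in
theorem aut_keep {g1 : T} (hg1 : C1 M g1) (φ : T ≃* T) (hφ : C1 M (φ g1)) (g : T) :
    C1 M (φ g) ↔ C1 M g := by
  constructor
  · intro h
    have h3 := h1 _ _ hφ h
    obtain ⟨c, hc⟩ := isConj_iff.1 h3
    refine hg1.isConj (isConj_iff.2 ⟨φ.symm c, ?_⟩)
    apply φ.injective
    rw [map_mul, map_mul, map_inv, φ.apply_symm_apply]
    exact hc
  · intro h
    obtain ⟨c, hc⟩ := isConj_iff.1 (h1 _ _ hg1 h)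
    refine hφ.isConj (isConj_iff.2 ⟨φ c, ?_⟩)
    rw [← hc, map_mul, map_mul, map_inv]

include h2 in
theorem aut_swap {g1 : T} (hg1 : C1 M g1) (φ : T ≃* T) (hφ : ¬ C1 M (φ g1)) (g : T)
    (hg : orderOf g = 3) (hgC : ¬ C1 M g) : C1 M (φ g) := by
  by_contra h
  have ho : ∀ x : T, orderOf (φ x) = orderOf x := fun x => orderOf_injective φ.toMonoidHom φ.injective x
  have h3 := h2 (φ g1) (φ g) (by rw [ho]; exact hg1.1) (by rw [ho]; exact hg) hφ h
  obtain ⟨c, hc⟩ := isConj_iff.1 h3
  apply hgC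
  refine hg1.isConj (isConj_iff.2 ⟨φ.symm c, ?_⟩)
  apply φ.injective
  rw [map_mul, map_mul, map_inv, φ.apply_symm_apply]
  exact hc

end classes

section

variable {G Ω : Type*} [Group G] [Finite G] [MulAction G Ω] [Finite Ω] {N : Subgroup G} [N.Normal]
  {m : ℕ} {T : Fin m → Subgroup G}

/-- The case of a factor of order 360 with a projection of index 6. -/
theorem a6_false (htrans : IsPretransitive G Ω) [Nonempty Ω] (hsq : Squarefree (Nat.card Ω))
    (helus : ∀ g : G, (orderOf g).Prime → ∃ ω : Ω, g • ω = ω)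
    (e : N ≃* (∀ i, T i))
    (he : ∀ i (t : T i), ((e.symm (Pi.mulSingle i t) : N) : G) = t)
    (hTN : ∀ i, T i ≤ N) (hTinj : Function.Injective T)
    (hcoord : ∀ (n : N) i, e n i = 1 ↔ ∀ t ∈ T i, Commute (n : G) t)
    (hconj : ∀ (g : G) i, ∃ j, T j = (T i).map (MulAut.conj g).toMonoidHom)
    (htransT : ∀ i j, ∃ g : G, T j = (T i).map (MulAut.conj g).toMonoidHom)
    (hnorm : ∀ i, N ≤ normalizer (T i : Set G))
    (hsimple : ∀ i, IsSimpleGroup (T i)) (hna : ∀ i, ∃ a b : T i, a * b ≠ b * a)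
    (ω : Ω) (i : Fin m) (hc : Nat.card (T i) = 360) (hi : (proj e ω i).index = 6)
    (huniq : ∀ j, j ≠ i → proj e ω j = ⊤) : False := by
  have hsi := hsimple i
  set M := proj e ω i with hMdef
  obtain ⟨⟨g0, hg0, hg0M⟩, ⟨g1, hg1, hg1M⟩, hcl1, hcl2⟩ := SqA6.two_classes (hna i) hc M hi
  have hC1 : ∀ g h : T i, C1 M g → C1 M h → IsConj g h := fun g h hg hh =>
    hcl1 g h hg.1 hh.1 hg.2 hh.2
  have hC2 : ∀ g h : T i, orderOf g = 3 → orderOf h = 3 → ¬ C1 M g → ¬ C1 M h → IsConj g h :=
    fun g h hg hh hg' hh' => hcl2 g h hg hh (fun h3 => hg' ⟨hg, h3⟩) (fun h3 => hh' ⟨hh, h3⟩)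
  have hg1C : C1 M g1 := ⟨hg1, 1, by simpa using hg1M⟩
  have hg0C : ¬ C1 M g0 := fun h => by
    obtain ⟨_, t, ht⟩ := h
    exact hg0M t ht
  have hMtop : M ≠ ⊤ := by
    intro h
    rw [h, index_top] at hi
    omega
  -- the stabilizer normalizes `T i`
  have hstab : ∀ h : G, h • ω = ω → T i = (T i).map (MulAut.conj h).toMonoidHom ∧
      ∀ g g' : T i, (g' : G) = h * g * h⁻¹ → g ∈ M → g' ∈ M := by
    intro h hh
    obtain ⟨j, hj⟩ := hconj h i
    have hji : j = i := by
      by_contra hne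
      apply hMtop
      rw [eq_top_iff]
      intro t _
      have h1 : h * (t : G) * h⁻¹ ∈ T j := by rw [hj]; exact ⟨t, t.2, rfl⟩
      have h2 : (⟨_, h1⟩ : T j) ∈ proj e ω j := by rw [huniq j hne]; exact mem_top _
      obtain ⟨n, hn, hnj⟩ := (mem_proj e ω j _).1 h2
      have hn' : h⁻¹ * (n : G) * h ∈ N := by
        have := (inferInstance : N.Normal).conj_mem _ n.2 h⁻¹
        rwa [inv_inv] at this
      refine (mem_proj e ω i t).2 ⟨⟨_, hn'⟩, ?_, ?_⟩
      · show (h⁻¹ * (n : G) * h) • ω = ω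
        rw [mul_smul, mul_smul, hh, hn, inv_smul_eq_iff, hh]
      · have h3 := coord_conj_val e he hcoord h i j hj ⟨_, hn'⟩ n (by
          show (n : G) = h * (h⁻¹ * (n : G) * h) * h⁻¹; group)
        rw [hnj] at h3
        have h4 : h * (t : G) * h⁻¹ = h * ((e ⟨_, hn'⟩ i : T i) : G) * h⁻¹ := h3
        exact Subtype.ext (mul_left_cancel (mul_right_cancel h4)).symm
    rw [hji] at hj
    refine ⟨hj, ?_⟩
    intro g g' hg' hg
    obtain ⟨n, hn, hni⟩ := (mem_proj e ω i g).1 hg
    have hn' : h * (n : G) * h⁻¹ ∈ N := (inferInstance : N.Normal).conj_mem _ n.2 h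
    refine (mem_proj e ω i g').2 ⟨⟨_, hn'⟩, ?_, ?_⟩
    · show (h * (n : G) * h⁻¹) • ω = ω
      have h5 : h⁻¹ • ω = ω := by rw [inv_smul_eq_iff, hh]
      rw [mul_smul, mul_smul, h5, hn, hh]
    · have h3 := coord_conj_val e he hcoord h i i hj n ⟨_, hn'⟩ rfl
      apply Subtype.ext
      rw [h3, hni, hg']
  by_cases hall : ∀ y : G, ∀ hy : T i = (T i).map (MulAut.conj y).toMonoidHom,
      C1 M (conjAut (T i) y hy g1)
  · -- no swap
    refine der_false htrans helus e he hcoord hconj htransT ω i g0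
      (by rw [hg0]; exact Nat.prime_three) ?_
    intro y hy n hn hne
    have h1 : e n i = conjAut (T i) y hy g0 := Subtype.ext hne
    have h2 := (aut_keep hC1 hg1C (conjAut (T i) y hy) (hall y hy) g0).not.2 hg0C
    apply h2
    rw [← h1]
    refine ⟨?_, 1, ?_⟩
    · rw [h1, ← hg0]
      exact orderOf_injective (conjAut (T i) y hy).toMonoidHom (conjAut (T i) y hy).injective g0
    · rw [one_mul, inv_one, mul_one]
      exact ⟨n, hn, rfl⟩
  · -- swap
    push Not at hall
    obtain ⟨y0, hy0, hy0C⟩ := hall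
    -- the normalizer
    let L : Subgroup G := normalizer (T i : Set G)
    have hL : ∀ y : G, y ∈ L ↔ T i = (T i).map (MulAut.conj y).toMonoidHom := by
      intro y
      constructor
      · intro hy
        exact (mem_normalizer_iff_map_conj_eq.mp hy).symm
      · intro hy
        exact mem_normalizer_iff_map_conj_eq.mpr hy.symm
    let D : G → Prop := fun y => ∀ g g' : T i, (g' : G) = y * g * y⁻¹ → C1 M g → C1 M g'
    have hD : ∀ y (hy : T i = (T i).map (MulAut.conj y).toMonoidHom),
        D y ↔ C1 M (conjAut (T i) y hy g1) := by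
      intro y hy
      constructor
      · intro h
        exact h g1 _ rfl hg1C
      · intro h g g' hg' hg
        have h1 : g' = conjAut (T i) y hy g := Subtype.ext hg'
        rw [h1]
        exact (aut_keep hC1 hg1C _ h g).2 hg
    have hmulD : ∀ a b : G, a ∈ L → b ∈ L → D a → D b → D (a * b) := by
      intro a b ha hb hDa hDb g g' hg' hg
      have h1 : b * (g : G) * b⁻¹ ∈ T i := (mem_normalizer_iff.1 hb _).1 g.2
      have h2 := hDb g ⟨_, h1⟩ rfl hg
      refine hDa ⟨_, h1⟩ g' ?_ h2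
      rw [hg']
      show a * b * (g : G) * (a * b)⁻¹ = a * (b * (g : G) * b⁻¹) * a⁻¹
      group
    let Y : Subgroup G :=
      { carrier := {y | y ∈ L ∧ D y}
        one_mem' := by
          refine ⟨one_mem _, ?_⟩
          intro g g' hg' hg
          have : g' = g := Subtype.ext (by rw [hg']; group)
          rw [this]; exact hg
        mul_mem' := by
          rintro a b ⟨ha, hDa⟩ ⟨hb, hDb⟩
          exact ⟨mul_mem ha hb, hmulD a b ha hb hDa hDb⟩
        inv_mem' := by
          rintro a ⟨ha, hDa⟩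
          refine ⟨inv_mem ha, ?_⟩
          have ha' := (hL a).1 ha
          have hi' := (hL a⁻¹).1 (inv_mem ha)
          intro g g' hg' hg
          have h1 : g = conjAut (T i) a ha' g' := Subtype.ext (by
            rw [conjAut_apply, hg']; group)
          rw [h1] at hg
          exact (aut_keep hC1 hg1C _ ((hD a ha').1 hDa) g').1 hg }
    have hYL : Y ≤ L := fun y hy => hy.1
    have hy0L : y0 ∈ L := (hL y0).2 hy0
    have hy0Y : y0 ∉ Y := fun h => hy0C ((hD y0 hy0).1 h.2)
    have hY2 : Y.relIndex L = 2 := by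
      have h1 : Y.relIndex L ∣ 2 := by
        rw [relIndex_dvd_two_iff]
        refine ⟨y0, hy0L, ?_⟩
        intro b hb
        by_cases hbY : b ∈ Y
        · exact Or.inr hbY
        · left
          have hb' := (hL b).1 hb
          have hbD : ¬ C1 M (conjAut (T i) b hb' g1) := fun h => hbY ⟨hb, (hD b hb').2 h⟩
          have hby := mul_mem hb hy0L
          refine ⟨hby, (hD _ ((hL _).1 hby)).2 ?_⟩
          have h2 : conjAut (T i) (b * y0) ((hL _).1 hby) g1 =
              conjAut (T i) b hb' (conjAut (T i) y0 hy0 g1) := by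
            apply Subtype.ext
            rw [conjAut_apply, conjAut_apply, conjAut_apply]
            group
          rw [h2]
          refine aut_swap hC2 hg1C _ hbD _ ?_ hy0C
          rw [← hg1]
          exact orderOf_injective (conjAut (T i) y0 hy0).toMonoidHom
            (conjAut (T i) y0 hy0).injective g1
      have h2 : Y.relIndex L ≠ 1 := by
        intro h
        rw [relIndex_eq_one] at h
        exact hy0Y (h hy0L)
      rcases (Nat.dvd_prime Nat.prime_two).1 h1 with h | h
      · exact absurd h h2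
      · exact h
    have hHY : stabilizer G ω ≤ Y := by
      intro h hh
      obtain ⟨hT, hMM⟩ := hstab h hh
      refine ⟨(hL h).2 hT, ?_⟩
      intro g g' hg' hg
      obtain ⟨ho, t, ht⟩ := hg
      have h1 : g' = conjAut (T i) h hT g := Subtype.ext hg'
      have h2 : conjAut (T i) h hT (t * g * t⁻¹) ∈ M := hMM (t * g * t⁻¹) _ rfl ht
      rw [map_mul, map_mul, map_inv, ← h1] at h2
      refine ⟨?_, _, h2⟩
      rw [h1, ← ho]
      exact orderOf_injective (conjAut (T i) h hT).toMonoidHom (conjAut (T i) h hT).injective g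
    have hNY : N ≤ Y := by
      intro n hn
      refine ⟨hnorm i hn, ?_⟩
      intro g g' hg' hg
      have h1 : g' = e ⟨n, hn⟩ i * g * (e ⟨n, hn⟩ i)⁻¹ := by
        apply Subtype.ext
        rw [← conj_single e he i ⟨n, hn⟩ g, hg']
      rw [h1]
      exact hg.conj _
    have h6 : 6 ∣ (stabilizer G ω).relIndex Y := by
      rw [← hi]
      exact (proj_index_dvd e ω i).trans (relIndex_dvd_relIndex _ N Y hHY hNY)
    have hidx : (stabilizer G ω).relIndex Y * (Y.relIndex L * L.index) = Nat.card Ω := by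
      rw [relIndex_mul_index hYL, relIndex_mul_index hHY, index_stabilizer_of_transitive G ω]
    rw [hY2] at hidx
    obtain ⟨c, hc⟩ := h6
    have h4 : 2 * 2 ∣ Nat.card Ω := ⟨3 * c * L.index, by rw [← hidx, hc]; ring⟩
    have h5 := hsq 2 h4
    rw [Nat.isUnit_iff] at h5
    omega

/-- **Main reduction.** -/
theorem commute_of_sq [FaithfulSMul G Ω] (htrans : IsPretransitive G Ω)
    (hsq : Squarefree (Nat.card Ω))
    (helus : ∀ g : G, (orderOf g).Prime → ∃ ω : Ω, g • ω = ω) (hN1 : N ≠ ⊥)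
    (hmin : ∀ M : Subgroup G, M.Normal → M ≤ N → M = ⊥ ∨ M = N)
    (hSQ : ∀ S : Subgroup G, IsSimpleGroup S → (∃ a b : S, a * b ≠ b * a) →
      ∀ M : Subgroup S, M ≠ ⊤ → Squarefree M.index →
        (∃ g : S, (orderOf g).Prime ∧ ∀ φ : S ≃* S, φ g ∉ M) ∨
          (Nat.card S = 360 ∧ M.index = 6)) :
    ∀ x ∈ N, ∀ y ∈ N, Commute x y := by
  by_contra hna
  obtain ⟨m, T, e, hm, hsimple, hTna, hTinj, hTN, hTn, hconj, htransT, he, hcoord⟩ :=
    exists_coordinates N hmin hna
  have hne : Nonempty Ω := by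
    by_contra h
    rw [not_nonempty_iff] at h
    rw [Nat.card_of_isEmpty] at hsq
    exact not_squarefree_zero hsq
  obtain ⟨ω⟩ := id hne
  have hdvd : (stabilizer G ω).relIndex N ∣ Nat.card Ω := by
    rw [← index_stabilizer_of_transitive G ω]
    exact relIndex_dvd_index _ _
  have hsqN : Squarefree ((stabilizer G ω).relIndex N) := hsq.squarefree_of_dvd hdvd
  have hPsq : ∀ i, Squarefree (proj e ω i).index := fun i =>
    hsqN.squarefree_of_dvd (proj_index_dvd e ω i)
  have hcase : ∀ i, proj e ω i ≠ ⊤ → Nat.card (T i) = 360 ∧ (proj e ω i).index = 6 := by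
    intro i hi
    rcases hSQ (T i) (hsimple i) (hTna i) (proj e ω i) hi (hPsq i) with ⟨g, hg, hgM⟩ | h
    · exfalso
      refine der_false htrans helus e he hcoord hconj htransT ω i g hg ?_
      intro y hy n hn hne
      apply hgM (conjAut (T i) y hy)
      have h1 : e n i = conjAut (T i) y hy g := Subtype.ext hne
      rw [← h1]
      exact ⟨n, hn, rfl⟩
    · exact h
  by_cases htop : ∀ i, proj e ω i = ⊤
  · rcases of_proj_top e he hTN hsimple ω htop with h | ⟨j, hj⟩
    · apply hN1
      rw [eq_bot_iff]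
      intro n hn
      rw [mem_bot]
      apply FaithfulSMul.eq_of_smul_eq_smul (α := Ω)
      intro a
      obtain ⟨g, rfl⟩ := htrans.exists_smul_eq ω a
      rw [one_smul]
      have h1 : g⁻¹ * n * g ∈ N := by
        have := (inferInstance : N.Normal).conj_mem _ hn g⁻¹
        rwa [inv_inv] at this
      have h2 : (g⁻¹ * n * g) • ω = ω := h h1
      rw [mul_smul, mul_smul, inv_smul_eq_iff] at h2
      exact h2
    · have := hsimple j
      exact not_squarefree_card (hTna j) (hsqN.squarefree_of_dvd hj)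
  · push Not at htop
    obtain ⟨i, hi⟩ := htop
    obtain ⟨hc, hi6⟩ := hcase i hi
    refine a6_false htrans hsq helus e he hTN hTinj hcoord hconj htransT hTn hsimple hTna ω i hc
      hi6 ?_
    intro j hji
    by_contra hj
    obtain ⟨_, hj6⟩ := hcase j hj
    -- 36 divides the index
    let f : N →* T i × T j := ((Pi.evalMonoidHom _ i).comp e.toMonoidHom).prod
      ((Pi.evalMonoidHom _ j).comp e.toMonoidHom)
    have hf : Function.Surjective f := by
      rintro ⟨a, b⟩
      refine ⟨e.symm (Pi.mulSingle i a * Pi.mulSingle j b), ?_⟩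
      apply Prod.ext
      · show e (e.symm _) i = a
        rw [MulEquiv.apply_symm_apply, Pi.mul_apply, Pi.mulSingle_eq_same,
          Pi.mulSingle_eq_of_ne (Ne.symm hji), mul_one]
      · show e (e.symm _) j = b
        rw [MulEquiv.apply_symm_apply, Pi.mul_apply, Pi.mulSingle_eq_same,
          Pi.mulSingle_eq_of_ne hji, one_mul]
    have h1 : (stabilizer G ω).subgroupOf N ≤ ((proj e ω i).prod (proj e ω j)).comap f := by
      intro n hn
      exact ⟨⟨n, hn, rfl⟩, ⟨n, hn, rfl⟩⟩
    have h2 : (((proj e ω i).prod (proj e ω j)).comap f).index = 36 := by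
      rw [index_comap_of_surjective _ hf, index_prod, hi6, hj6]
    have h3 : 36 ∣ (stabilizer G ω).relIndex N := by
      rw [← h2]; exact index_dvd_of_le h1
    have h4 := hsqN 2 (Dvd.dvd.trans (by norm_num) h3)
    rw [Nat.isUnit_iff] at h4
    omega

end

end Cfsg.Agent.H394.SqMain
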