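import Cfsg.Prelude.Def_Transfer
import Cfsg.Agent.H394.SqMain
import Cfsg.Agent.H396.Der

/-!
# Elusive groups of square-free degree: the abelian half
-/

set_option autoImplicit false

namespace Cfsg.Agent.H394.SqFinal

open MulAction Subgroup Cfsg.Agent.H394.SqRed

variable {G Ω : Type*} [Group G] [Finite G] [MulAction G Ω] [Finite Ω]

/-- Orbit lengths of a subgroup. -/
theorem card_orbit (N : Subgroup G) (ω : Ω) :
    Nat.card (orbit N ω) = (stabilizer G ω).relIndex N := by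
  rw [Nat.card_coe_set_eq, ← MulAction.index_stabilizer]
  rfl

theorem abelian_half [FaithfulSMul G Ω] (htrans : IsPretransitive G Ω)
    (hsq : Squarefree (Nat.card Ω)) (N : Subgroup G) [N.Normal] (hN1 : N ≠ ⊥)
    (hmin : ∀ M : Subgroup G, M.Normal → M ≤ N → M = ⊥ ∨ M = N)
    (hab : ∀ x ∈ N, ∀ y ∈ N, Commute x y) :
    ∃ r : ℕ, r.Prime ∧ Cfsg.IsElementaryAbelian r N ∧
      ∀ ω : Ω, Nat.card (orbit N ω) = r ∧ r ∣ Nat.card Ω := by
  obtain ⟨r, hr, hrp, hr1⟩ :=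
    Cfsg.Agent.Lib.MinNormalNonabelian.abelian_structure N hN1 hmin hab
  refine ⟨r, hr, ?_, ?_⟩
  · exact ⟨⟨⟨fun a b => Subtype.ext (hab a a.2 b b.2).eq⟩⟩, hr1⟩
  · intro ω
    have hdvd : (stabilizer G ω).relIndex N ∣ Nat.card Ω := by
      rw [← index_stabilizer_of_transitive G ω]
      exact relIndex_dvd_index _ _
    have : Fact r.Prime := ⟨hr⟩
    obtain ⟨k, hk⟩ := IsPGroup.iff_card.1 hrp
    have h1 : (stabilizer G ω).relIndex N ∣ r ^ k := by
      rw [← hk]; exact relIndex_dvd_card _ _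
    obtain ⟨j, hj, hj2⟩ := (Nat.dvd_prime_pow hr).1 h1
    rw [card_orbit, hj2]
    rw [hj2] at hdvd
    have hj1 : j ≤ 1 := by
      by_contra hcon
      have h2 : r * r ∣ Nat.card Ω := (pow_two r ▸ pow_dvd_pow r (by omega : 2 ≤ j)).trans hdvd
      have h3 := hsq r h2
      rw [Nat.isUnit_iff] at h3
      exact hr.one_lt.ne' h3
    have hj0 : j ≠ 0 := by
      intro h0
      rw [h0, pow_zero, relIndex_eq_one] at hj2
      apply hN1
      rw [eq_bot_iff]
      intro n hn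
      rw [mem_bot]
      apply FaithfulSMul.eq_of_smul_eq_smul (α := Ω)
      intro a
      obtain ⟨g, rfl⟩ := htrans.exists_smul_eq ω a
      rw [one_smul]
      have h1 : g⁻¹ * n * g ∈ N := by
        have := (inferInstance : N.Normal).conj_mem _ hn g⁻¹
        rwa [inv_inv] at this
      have h2 : (g⁻¹ * n * g) • ω = ω := hj2 h1
      rw [mul_smul, mul_smul, inv_smul_eq_iff] at h2
      exact h2
    have hj3 : j = 1 := by omega
    rw [hj3, pow_one] at hdvd ⊢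
    exact ⟨rfl, hdvd⟩

/-- S3551 from the simple group statement. -/
theorem of_sq [FaithfulSMul G Ω] (htrans : IsPretransitive G Ω) (hsq : Squarefree (Nat.card Ω))
    (helus : ∀ g : G, (orderOf g).Prime → ∃ ω : Ω, g • ω = ω)
    (N : Subgroup G) (hN : N.Normal) (hN1 : N ≠ ⊥)
    (hmin : ∀ M : Subgroup G, M.Normal → M ≤ N → M = ⊥ ∨ M = N)
    (hSQ : ∀ S : Subgroup G, IsSimpleGroup S → (∃ a b : S, a * b ≠ b * a) →
      ∀ M : Subgroup S, M ≠ ⊤ → Squarefree M.index →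
        (∃ g : S, (orderOf g).Prime ∧ ∀ φ : S ≃* S, φ g ∉ M) ∨
          (Nat.card S = 360 ∧ M.index = 6)) :
    ∃ r : ℕ, r.Prime ∧ Cfsg.IsElementaryAbelian r N ∧
      ∀ ω : Ω, Nat.card (orbit N ω) = r ∧ r ∣ Nat.card Ω :=
  abelian_half htrans hsq N hN1 hmin
    (SqMain.commute_of_sq htrans hsq helus hN1 hmin hSQ)

/-- S3551 from `SQ` for all simple groups. -/
theorem of_SQ [FaithfulSMul G Ω] (htrans : IsPretransitive G Ω) (hsq : Squarefree (Nat.card Ω))
    (helus : ∀ g : G, (orderOf g).Prime → ∃ ω : Ω, g • ω = ω)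
    (N : Subgroup G) (hN : N.Normal) (hN1 : N ≠ ⊥)
    (hmin : ∀ M : Subgroup G, M.Normal → M ≤ N → M = ⊥ ∨ M = N)
    (hSQ : ∀ S : Subgroup G, IsSimpleGroup S → (∃ a b : S, a * b ≠ b * a) →
      Cfsg.Agent.H396.SQ S) :
    ∃ r : ℕ, r.Prime ∧ Cfsg.IsElementaryAbelian r N ∧
      ∀ ω : Ω, Nat.card (orbit N ω) = r ∧ r ∣ Nat.card Ω := by
  refine of_sq htrans hsq helus N hN hN1 hmin ?_
  intro S hS hna M hM hMsq
  rcases hSQ S hS hna M hM hMsq with h | ⟨⟨e⟩, h6⟩
  · exact Or.inl h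
  · right
    refine ⟨?_, h6⟩
    rw [Nat.card_congr e.toEquiv, nat_card_alternatingGroup, Nat.card_eq_fintype_card,
      Fintype.card_fin]
    rfl

end Cfsg.Agent.H394.SqFinal
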