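import Cfsg.Agent.PermutationGroups.OnanScott
import Cfsg.Agent.H394.SqA6

/-!
# Elusive groups of square-free degree: reduction to simple groups
-/

set_option autoImplicit false

namespace Cfsg.Agent.H394.SqRed

open MulAction Subgroup Cfsg.Agent.PermutationGroups.OnanScott
open scoped commutatorElement

/-- A group of square-free order is not a non-abelian simple group. -/
theorem not_squarefree_card {T : Type*} [Group T] [Finite T] [IsSimpleGroup T]
    (hna : ∃ a b : T, a * b ≠ b * a) : ¬ Squarefree (Nat.card T) := by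
  intro h
  have : IsZGroup T := IsZGroup.of_squarefree h
  obtain ⟨a, b, hab⟩ := hna
  have h1 : commutator T < ⊤ := IsZGroup.commutator_lt T
  rcases IsSimpleGroup.eq_bot_or_eq_top_of_normal (commutator T) inferInstance with h2 | h2
  · apply hab
    have h3 : ⁅a, b⁆ ∈ commutator T := Subgroup.commutator_mem_commutator (mem_top a) (mem_top b)
    rw [h2, mem_bot, commutatorElement_eq_one_iff_mul_comm] at h3
    exact h3
  · exact absurd h2 h1.ne

section

variable {G : Type*} [Group G] [Finite G] {N : Subgroup G} [N.Normal] {m : ℕ} {T : Fin m → Subgroup G}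

/-- Conjugation and coordinates. -/
theorem coord_conj (e : N ≃* (∀ i, T i))
    (hcoord : ∀ (n : N) i, e n i = 1 ↔ ∀ t ∈ T i, Commute (n : G) t)
    (k : G) (i j : Fin m) (hij : T j = (T i).map (MulAut.conj k).toMonoidHom) (n n' : N)
    (hn' : (n' : G) = k * n * k⁻¹) : e n' j = 1 ↔ e n i = 1 := by
  rw [hcoord, hcoord, hij, hn']
  constructor
  · intro h t ht
    have h1 := h (k * t * k⁻¹) ⟨t, ht, rfl⟩
    have h2 : k * (n : G) * k⁻¹ * (k * t * k⁻¹) = k * t * k⁻¹ * (k * (n : G) * k⁻¹) := h1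
    have h3 : k * ((n : G) * t) * k⁻¹ = k * (t * (n : G)) * k⁻¹ := by
      calc k * ((n : G) * t) * k⁻¹ = k * (n : G) * k⁻¹ * (k * t * k⁻¹) := by group
        _ = k * t * k⁻¹ * (k * (n : G) * k⁻¹) := h2
        _ = k * (t * (n : G)) * k⁻¹ := by group
    exact mul_left_cancel (mul_right_cancel h3)
  · rintro h _ ⟨t, ht, rfl⟩
    exact (h t ht).map (MulAut.conj k)

theorem coord_conj_eq (e : N ≃* (∀ i, T i))
    (hcoord : ∀ (n : N) i, e n i = 1 ↔ ∀ t ∈ T i, Commute (n : G) t)
    (k : G) (i j : Fin m) (hij : T j = (T i).map (MulAut.conj k).toMonoidHom) (x y x' y' : N)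
    (hx' : (x' : G) = k * x * k⁻¹) (hy' : (y' : G) = k * y * k⁻¹) :
    e x' j = e y' j ↔ e x i = e y i := by
  have h := coord_conj e hcoord k i j hij (x * y⁻¹) (x' * y'⁻¹) (by
    push_cast
    rw [hx', hy']; group)
  rw [map_mul, map_mul, map_inv, map_inv, Pi.mul_apply, Pi.mul_apply, Pi.inv_apply, Pi.inv_apply,
    mul_inv_eq_one, mul_inv_eq_one] at h
  exact h

/-- The coordinates of a conjugate. -/
theorem coord_conj_val (e : N ≃* (∀ i, T i))
    (he : ∀ i (t : T i), ((e.symm (Pi.mulSingle i t) : N) : G) = t)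
    (hcoord : ∀ (n : N) i, e n i = 1 ↔ ∀ t ∈ T i, Commute (n : G) t)
    (k : G) (i j : Fin m) (hij : T j = (T i).map (MulAut.conj k).toMonoidHom) (n n' : N)
    (hn' : (n' : G) = k * n * k⁻¹) : ((e n' j : T j) : G) = k * (e n i : T i) * k⁻¹ := by
  have hmem : k * ((e n i : T i) : G) * k⁻¹ ∈ T j := by
    rw [hij]; exact ⟨_, (e n i).2, rfl⟩
  have key := (coord_conj_eq e hcoord k i j hij n (e.symm (Pi.mulSingle i (e n i))) n'
    (e.symm (Pi.mulSingle j ⟨_, hmem⟩)) hn' (by rw [he, he])).2 (by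
      rw [MulEquiv.apply_symm_apply, Pi.mulSingle_eq_same])
  rw [MulEquiv.apply_symm_apply, Pi.mulSingle_eq_same] at key
  rw [key]

end

section

variable {G Ω : Type*} [Group G] [Finite G] [MulAction G Ω] [Finite Ω] {N : Subgroup G} [N.Normal]
  {m : ℕ} {T : Fin m → Subgroup G}

/-- The projection of the point stabilizer in `N` to the factor `T i`. -/
def proj (e : N ≃* (∀ i, T i)) (ω : Ω) (i : Fin m) : Subgroup (T i) :=
  ((stabilizer G ω).subgroupOf N).map ((Pi.evalMonoidHom _ i).comp e.toMonoidHom)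

omit [Finite G] [Finite Ω] [N.Normal] in
theorem mem_proj (e : N ≃* (∀ i, T i)) (ω : Ω) (i : Fin m) (t : T i) :
    t ∈ proj e ω i ↔ ∃ n : N, (n : G) • ω = ω ∧ e n i = t := Iff.rfl

/-- A well-placed element `g` of prime order gives a fixed-point-free element. -/
theorem der_false (htrans : IsPretransitive G Ω)
    (helus : ∀ g : G, (orderOf g).Prime → ∃ ω : Ω, g • ω = ω)
    (e : N ≃* (∀ i, T i))
    (he : ∀ i (t : T i), ((e.symm (Pi.mulSingle i t) : N) : G) = t)
    (hcoord : ∀ (n : N) i, e n i = 1 ↔ ∀ t ∈ T i, Commute (n : G) t)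
    (hconj : ∀ (g : G) i, ∃ j, T j = (T i).map (MulAut.conj g).toMonoidHom)
    (htransT : ∀ i j, ∃ g : G, T j = (T i).map (MulAut.conj g).toMonoidHom)
    (ω : Ω) (i : Fin m) (g : T i) (hg : (orderOf g).Prime)
    (hgn : ∀ y : G, T i = (T i).map (MulAut.conj y).toMonoidHom →
      ∀ n : N, (n : G) • ω = ω → ((e n i : T i) : G) ≠ y * g * y⁻¹) : False := by
  choose y hy using htransT i
  have hmem : ∀ j, y j * (g : G) * (y j)⁻¹ ∈ T j := fun j => by
    rw [hy j]; exact ⟨_, g.2, rfl⟩
  let x : N := e.symm (fun j => ⟨_, hmem j⟩)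
  have hxj : ∀ j, ((e x j : T j) : G) = y j * (g : G) * (y j)⁻¹ := by
    intro j
    show ((e (e.symm _) j : T j) : G) = _
    rw [MulEquiv.apply_symm_apply]
  have hord : orderOf x = orderOf g := by
    apply Nat.dvd_antisymm
    · rw [orderOf_dvd_iff_pow_eq_one]
      apply e.injective
      rw [map_one]
      funext j
      apply Subtype.ext
      rw [map_pow, Pi.pow_apply, SubmonoidClass.coe_pow, hxj, conj_pow]
      have : (g : G) ^ orderOf g = 1 := by
        rw [← SubmonoidClass.coe_pow, pow_orderOf_eq_one]; rfl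
      rw [this, mul_one, mul_inv_cancel]; rfl
    · rw [orderOf_dvd_iff_pow_eq_one]
      have h1 : e (x ^ orderOf x) i = 1 := by rw [pow_orderOf_eq_one, map_one]; rfl
      have h2 : ((e (x ^ orderOf x) i : T i) : G) = 1 := by rw [h1]; rfl
      rw [map_pow, Pi.pow_apply, SubmonoidClass.coe_pow, hxj, conj_pow] at h2
      apply Subtype.ext
      rw [SubmonoidClass.coe_pow]
      have h3 := mul_inv_eq_one.1 h2
      show (g : G) ^ orderOf x = 1
      exact (mul_left_cancel (h3.trans (mul_one _).symm))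
  have hxp : (orderOf (x : G)).Prime := by
    rw [Subgroup.orderOf_coe, hord]; exact hg
  obtain ⟨ω', hω'⟩ := helus _ hxp
  obtain ⟨z, rfl⟩ := htrans.exists_smul_eq ω ω'
  have hn : z⁻¹ * (x : G) * z ∈ N := by
    have := (inferInstance : N.Normal).conj_mem _ x.2 z⁻¹
    rwa [inv_inv] at this
  obtain ⟨j, hj⟩ := hconj z i
  have h1 := coord_conj_val e he hcoord z i j hj ⟨_, hn⟩ x (by
    show (x : G) = z * (z⁻¹ * (x : G) * z) * z⁻¹; group)
  rw [hxj] at h1
  refine hgn (z⁻¹ * y j) ?_ ⟨_, hn⟩ ?_ ?_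
  · have h2 := hy j
    rw [hj] at h2
    ext t
    constructor
    · intro ht
      have h3 : z * t * z⁻¹ ∈ (T i).map (MulAut.conj z).toMonoidHom := ⟨t, ht, rfl⟩
      rw [h2] at h3
      obtain ⟨s, hs, hs2⟩ := h3
      refine ⟨s, hs, ?_⟩
      have h4 : y j * s * (y j)⁻¹ = z * t * z⁻¹ := hs2
      show z⁻¹ * y j * s * (z⁻¹ * y j)⁻¹ = t
      calc z⁻¹ * y j * s * (z⁻¹ * y j)⁻¹ = z⁻¹ * (y j * s * (y j)⁻¹) * z := by group
        _ = t := by rw [h4]; group
    · rintro ⟨s, hs, rfl⟩
      have h3 : y j * s * (y j)⁻¹ ∈ (T i).map (MulAut.conj (y j)).toMonoidHom := ⟨s, hs, rfl⟩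
      rw [← h2] at h3
      obtain ⟨t, ht, ht2⟩ := h3
      have h4 : z * t * z⁻¹ = y j * s * (y j)⁻¹ := ht2
      have h5 : (MulAut.conj (z⁻¹ * y j)).toMonoidHom s = t := by
        show z⁻¹ * y j * s * (z⁻¹ * y j)⁻¹ = t
        calc z⁻¹ * y j * s * (z⁻¹ * y j)⁻¹ = z⁻¹ * (y j * s * (y j)⁻¹) * z := by group
          _ = t := by rw [← h4]; group
      rw [h5]; exact ht
  · show (z⁻¹ * (x : G) * z) • ω = ω
    rw [mul_smul, mul_smul, hω', inv_smul_smul]
  · have h5 : ((e ⟨z⁻¹ * (x : G) * z, hn⟩ i : T i) : G) = z⁻¹ * (z * (e ⟨z⁻¹ * (x : G) * z, hn⟩ i : T i) * z⁻¹) * z := by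
      group
    rw [h5, ← h1]; group

/-- Automorphism induced by a normalizing element. -/
def conjAut (S : Subgroup G) (y : G) (h : S = S.map (MulAut.conj y).toMonoidHom) : S ≃* S :=
  ((MulAut.conj y).subgroupMap S).trans (MulEquiv.subgroupCongr h.symm)

omit [Finite G] in
theorem conjAut_apply (S : Subgroup G) (y : G) (h : S = S.map (MulAut.conj y).toMonoidHom) (s : S) :
    ((conjAut S y h s : S) : G) = y * s * y⁻¹ := rfl

end

section

variable {G : Type*} [Group G] [Finite G]

theorem relIndex_sup_eq (H N : Subgroup G) [N.Normal] : H.relIndex (H ⊔ N) = H.relIndex N := by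
  have h1 : (H ⊓ N).relIndex H * H.relIndex (H ⊔ N) = (H ⊓ N).relIndex (H ⊔ N) :=
    relIndex_mul_relIndex _ _ _ inf_le_left le_sup_left
  have h2 : (H ⊓ N).relIndex N * N.relIndex (H ⊔ N) = (H ⊓ N).relIndex (H ⊔ N) :=
    relIndex_mul_relIndex _ _ _ inf_le_right le_sup_right
  rw [inf_relIndex_left] at h1
  rw [inf_relIndex_right, relIndex_sup_right] at h2
  have h3 : N.relIndex H ≠ 0 := Subgroup.index_ne_zero_of_finite
  have h4 : N.relIndex H * H.relIndex (H ⊔ N) = N.relIndex H * H.relIndex N := by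
    rw [h1, ← h2, mul_comm]
  exact Nat.eq_of_mul_eq_mul_left (Nat.pos_of_ne_zero h3) h4

theorem relIndex_dvd_relIndex (H N Y : Subgroup G) [N.Normal] (hH : H ≤ Y) (hN : N ≤ Y) :
    H.relIndex N ∣ H.relIndex Y := by
  rw [← relIndex_sup_eq H N, ← relIndex_mul_relIndex H (H ⊔ N) Y le_sup_left (sup_le hH hN)]
  exact Dvd.intro _ rfl

theorem relIndex_dvd_index (H N : Subgroup G) [N.Normal] : H.relIndex N ∣ H.index := by
  have h := relIndex_dvd_relIndex H N ⊤ le_top le_top
  rwa [relIndex_top_right] at h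

/-- Conjugation inside `N` of an element supported on one coordinate. -/
theorem conj_single {N : Subgroup G} {m : ℕ} {T : Fin m → Subgroup G} (e : N ≃* (∀ i, T i))
    (he : ∀ i (t : T i), ((e.symm (Pi.mulSingle i t) : N) : G) = t) (i : Fin m) (n : N)
    (t : T i) : (n : G) * t * (n : G)⁻¹ = ((e n i * t * (e n i)⁻¹ : T i) : G) := by
  have h1 : n * e.symm (Pi.mulSingle i t) * n⁻¹ =
      e.symm (Pi.mulSingle i (e n i * t * (e n i)⁻¹)) := by
    rw [MulEquiv.eq_symm_apply, map_mul, map_mul, map_inv, MulEquiv.apply_symm_apply]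
    funext j
    by_cases hj : j = i
    · subst hj
      rw [Pi.mul_apply, Pi.mul_apply, Pi.inv_apply, Pi.mulSingle_eq_same, Pi.mulSingle_eq_same]
    · rw [Pi.mul_apply, Pi.mul_apply, Pi.inv_apply, Pi.mulSingle_eq_of_ne hj,
        Pi.mulSingle_eq_of_ne hj, mul_one, mul_inv_cancel]
  have h2 := congrArg (fun z : N => (z : G)) h1
  simp only [Subgroup.coe_mul, Subgroup.coe_inv, he] at h2
  exact h2

end

section

variable {G Ω : Type*} [Group G] [Finite G] [MulAction G Ω] [Finite Ω] {N : Subgroup G} [N.Normal]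
  {m : ℕ} {T : Fin m → Subgroup G}

omit [Finite Ω] [N.Normal] [Finite G] in
theorem proj_index_dvd (e : N ≃* (∀ i, T i)) (ω : Ω) (i : Fin m) :
    (proj e ω i).index ∣ (stabilizer G ω).relIndex N := by
  apply index_map_dvd
  intro t
  exact ⟨e.symm (Pi.mulSingle i t), by simp⟩

/-- If all projections of the stabilizer are onto, the stabilizer contains `N` or the order of
some `T j` divides the length of the `N`-orbit. -/
theorem of_proj_top (e : N ≃* (∀ i, T i))
    (he : ∀ i (t : T i), ((e.symm (Pi.mulSingle i t) : N) : G) = t)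
    (hTN : ∀ i, T i ≤ N)
    (hsimple : ∀ i, IsSimpleGroup (T i)) (ω : Ω) (htop : ∀ i, proj e ω i = ⊤) :
    N ≤ stabilizer G ω ∨ ∃ j, Nat.card (T j) ∣ (stabilizer G ω).relIndex N := by
  classical
  have hnorm : ∀ j, ((stabilizer G ω).subgroupOf (T j)).Normal := by
    intro j
    constructor
    intro x hx t
    obtain ⟨s, hs, hst⟩ : ∃ n : N, (n : G) • ω = ω ∧ e n j = t := by
      rw [← mem_proj, htop]; exact mem_top _
    rw [mem_subgroupOf] at hx ⊢
    rw [← hst, ← conj_single e he j s x]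
    exact mul_mem (mul_mem hs hx) (inv_mem (show (s : G) ∈ stabilizer G ω from hs))
  by_cases h : ∀ j, (stabilizer G ω).subgroupOf (T j) = ⊤
  · left
    intro n hn
    have h1 : (⟨n, hn⟩ : N) ∈ (stabilizer G ω).subgroupOf N := by
      have h2 : e ⟨n, hn⟩ ∈ ((stabilizer G ω).subgroupOf N).comap e.symm.toMonoidHom := by
        refine Subgroup.pi_mem_of_mulSingle_mem _ ?_
        intro j
        rw [mem_comap]
        show ((e.symm (Pi.mulSingle j (e ⟨n, hn⟩ j)) : N) : G) ∈ stabilizer G ω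
        rw [he]
        exact (subgroupOf_eq_top.1 (h j)) (e ⟨n, hn⟩ j).2
      rw [mem_comap] at h2
      have h3 : e.symm.toMonoidHom (e ⟨n, hn⟩) = ⟨n, hn⟩ := e.symm_apply_apply _
      rwa [h3] at h2
    exact h1
  · right
    push Not at h
    obtain ⟨j, hj⟩ := h
    have := hsimple j
    have := hnorm j
    have hbot : (stabilizer G ω).subgroupOf (T j) = ⊥ :=
      (IsSimpleGroup.eq_bot_or_eq_top_of_normal _ inferInstance).resolve_right hj
    refine ⟨j, ?_⟩
    have hTn : ((T j).subgroupOf N).Normal := by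
      constructor
      intro x hx n
      rw [mem_subgroupOf] at hx ⊢
      have h1 := conj_single e he j n ⟨(x : G), hx⟩
      have h2 : ((n * x * n⁻¹ : N) : G) = (n : G) * x * (n : G)⁻¹ := by simp
      rw [h2, h1]
      exact Subtype.prop _
    have h1 := relIndex_dvd_index ((stabilizer G ω).subgroupOf N) ((T j).subgroupOf N)
    have h2 : ((stabilizer G ω).subgroupOf N).relIndex ((T j).subgroupOf N) = Nat.card (T j) := by
      rw [relIndex_subgroupOf (hTN j), relIndex, hbot, index_bot]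
    rw [h2] at h1
    exact h1

end

end Cfsg.Agent.H394.SqRed
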