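import Mathlib
import Cfsg.Agent.H394.SqSporBase
import Cfsg.Agent.NotCT.Orders
import Cfsg.Agent.KFacts.J2.SheetX
import Cfsg.Agent.KFacts.SuzSheetE
import Cfsg.Agent.KFacts.HN.Sheet
import Cfsg.Agent.KFacts.CoTwo.QuotInst
import Cfsg.Agent.KFacts.J4.SheetJ4
import Cfsg.Agent.KFacts.FiTF.SheetF
import Cfsg.Agent.OddHalf.D8.SheetMap

/-!
# `SQ` for `J2, Suz, HN, Co2, J4, Fi24'`
-/

set_option autoImplicit false

namespace Cfsg.Agent.H394.SqSporA

open Cfsg Subgroup Cfsg.Agent.H396 Cfsg.Agent.H394.SqSporBase Cfsg.Agent.H394.SqSheet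
open Cfsg.Agent.OddHalf.D8.Sheet Cfsg.Agent.OddHalf.D8.JTwo.Sheet Cfsg.Agent.OddHalf.D8

universe u
variable {T : Type u} [Group T] [Finite T] [IsSimpleGroup T]

theorem ofX {K : Type*} [Group K] {z : K} {P R : Subgroup K} (h : SheetX z P R) : Sh z P R where
  zz := h.zz
  z1 := h.z1
  zR := h.zR
  RP := h.RP
  cen := h.cen
  perf := h.perf
  R2 := h.R2
  Rn := h.Rn
  Rmin := h.Rmin
  Rna := h.Rna

theorem ofE {K : Type*} [Group K] {z : K} {P R : Subgroup K} (h : SheetE z P R) : Sh z P R :=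
  ofX (of_sheetE h)

theorem j2 (h : Spor.IsoJ2 T) : SQ T := by
  obtain ⟨t, u, Q, v, ρ, D⟩ := KFacts.J2.Facts.exists_dat_of h
  refine sq_of_sh5 (N := 604800) (W := 30) (L := [2, 3, 5, 7]) ⟨?_, ?_, ?_, {2, 3, 5}, ?_, ?_⟩
    (NotCT.Orders.j2 h) (ofX (KFacts.J2.SheetX.sheetX D)) (c := 32) ?_ (by norm_num) 7 (by norm_num) (by norm_num)
  · decide +kernel
  · decide +kernel
  · decide
  · decide
  · decide +kernel
  · rw [card_map_of_injective (Subtype.val_injective)]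
    exact D.cardQ

theorem suz (h : Spor.IsoSuz T) : SQ T := by
  obtain ⟨e⟩ := h
  refine sq_of_sh5 (N := 448345497600) (W := 30) (L := [2, 3, 5, 7, 11, 13]) ⟨?_, ?_, ?_, {2, 3, 5}, ?_, ?_⟩
    (NotCT.Orders.suz ⟨e⟩) (ofE (SheetMap.sheetE_map e.symm KFacts.SuzSheetE.sheetE)) (c := 128) ?_ (by norm_num) 15
    (by norm_num) (by norm_num)
  · decide +kernel
  · decide +kernel
  · decide
  · decide
  · decide +kernel
  · rw [card_map_of_injective e.symm.injective, KFacts.SuzR.card_R]; norm_num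

theorem hn (h : Spor.IsoHN T) : SQ T := by
  obtain ⟨e⟩ := h
  refine sq_of_sh5 (N := 273030912000000) (W := 30) (L := [2, 3, 5, 7, 11, 19]) ⟨?_, ?_, ?_, {2, 3, 5}, ?_, ?_⟩
    (NotCT.Orders.hn ⟨e⟩) (ofE (SheetMap.sheetE_map e.symm KFacts.HN.sheetE)) (c := 512) ?_ (by norm_num) 31
    (by norm_num) (by norm_num)
  · decide +kernel
  · decide +kernel
  · decide
  · decide
  · decide +kernel
  · rw [card_map_of_injective e.symm.injective]; exact KFacts.HN.card_RS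

theorem co2 (h : Spor.IsoCo2 T) : SQ T := by
  obtain ⟨e⟩ := h
  have := Cfsg.Agent.Schreier.CoTwoStab.finite
  refine sq_of_sh5 (N := 42305421312000) (W := 30) (L := [2, 3, 5, 7, 11, 23]) ⟨?_, ?_, ?_, {2, 3, 5}, ?_, ?_⟩
    (NotCT.Orders.co2 ⟨e⟩) (ofE (SheetMap.sheetE_map e.symm KFacts.CoTwo.QuotInst.dataT.sheet)) (c := 512) ?_ (by norm_num) 31
    (by norm_num) (by norm_num)
  · decide +kernel
  · decide +kernel
  · decide
  · decide
  · decide +kernel
  · rw [card_map_of_injective e.symm.injective]; exact KFacts.CoTwo.RLarge.card_R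

theorem j4 (h : Spor.IsoJ4 T) : SQ T := by
  obtain ⟨h1, h2, ⟨F⟩⟩ := KFacts.J4.Base.exists_full h
  refine sq_of_sh5 (N := 86775571046077562880) (W := 66) (L := [2, 3, 5, 7, 11, 23, 29, 31, 37, 43])
    ⟨?_, ?_, ?_, {2, 3, 11}, ?_, ?_⟩
    (NotCT.Orders.j4 h) (ofE (KFacts.J4.SheetJ4.sheet F)) (c := 8192) F.C.Q_card (by norm_num) 127
    (by norm_num) (by norm_num)
  · decide +kernel
  · decide +kernel
  · decide
  · decide
  · decide +kernel

theorem fi24 (h : Spor.IsoFi24' T) : SQ T := by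
  obtain ⟨e⟩ := h
  refine sq_of_sh5 (N := 1255205709190661721292800) (W := 210) (L := [2, 3, 5, 7, 11, 13, 17, 23, 29])
    ⟨?_, ?_, ?_, {2, 3, 5, 7}, ?_, ?_⟩
    (NotCT.Orders.fi24 ⟨e⟩) (ofE (SheetMap.sheetE_map e.symm KFacts.FiTF.sheetE)) (c := 8192) ?_ (by norm_num) 127
    (by norm_num) (by norm_num)
  · decide +kernel
  · decide +kernel
  · decide
  · decide
  · decide +kernel
  · rw [card_map_of_injective e.symm.injective, Nat.card_congr (subgroupOfEquivOfLe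
      (KFacts.FiTF.frame.RE.trans KFacts.FiTF.frame.EK)).toEquiv]
    exact KFacts.FiTF.frame.cardR

end Cfsg.Agent.H394.SqSporA
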