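import Mathlib
import Cfsg.Agent.H394.SqSporA
import Cfsg.Agent.H394.SqSzRee
import Cfsg.Agent.Mrg.Omega.ML.RowBM
import Cfsg.Agent.KFacts.Co1.CaseM
import Cfsg.Agent.CoOneType.CentOctad

/-!
# `SQ` for `M, B, Th, Co1`
-/

set_option autoImplicit false

namespace Cfsg.Agent.H394.SqSporC

open Cfsg Subgroup Cfsg.Agent.H396 Cfsg.Agent.H394.SqSporBase Cfsg.Agent.H394.SqSheet Cfsg.Agent.H394.SqSporA
open Cfsg.Agent.OddHalf.D8.Sheet Cfsg.Agent.OddHalf.D8.JTwo.Sheet Cfsg.Agent.OddHalf.D8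
open Cfsg.Agent.H394.SqBasic

/-- `P / R` is simple -/
def Simp {K : Type*} [Group K] (P R : Subgroup K) : Prop :=
  ∀ B : Subgroup K, R ≤ B → B ≤ P → (∀ x ∈ P, ∀ b ∈ B, x * b * x⁻¹ ∈ B) → B = R ∨ B = P

theorem simp_of_quot {K : Type*} [Group K] {P R : Subgroup K} {L : Type*} [Group L] [IsSimpleGroup L]
    (π : P →* L) (hs : Function.Surjective π) (hk : ∀ c, π c = 1 ↔ (c : K) ∈ R) : Simp P R := by
  intro B hRB hBP hn
  have hN : ((B.subgroupOf P).map π).Normal := by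
    refine ⟨?_⟩
    rintro _ ⟨b, hb, rfl⟩ g
    obtain ⟨x, rfl⟩ := hs g
    refine ⟨x * b * x⁻¹, ?_, by simp⟩
    exact hn x x.2 b hb
  rcases IsSimpleGroup.eq_bot_or_eq_top_of_normal _ hN with h | h
  · left
    refine le_antisymm ?_ hRB
    intro b hb
    have h1 : π ⟨b, hBP hb⟩ ∈ (B.subgroupOf P).map π := ⟨⟨b, hBP hb⟩, hb, rfl⟩
    rw [h, mem_bot] at h1
    exact (hk _).1 h1
  · right
    refine le_antisymm hBP ?_
    intro x hx
    have h1 : π ⟨x, hx⟩ ∈ (B.subgroupOf P).map π := by rw [h]; trivial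
    obtain ⟨b, hb, hbx⟩ := h1
    have h2 : π (b⁻¹ * ⟨x, hx⟩) = 1 := by rw [map_mul, map_inv, hbx, inv_mul_cancel]
    have h3 : (b : K)⁻¹ * x ∈ B := hRB ((hk _).1 h2)
    have h4 := B.mul_mem (show (b : K) ∈ B from hb) h3
    rwa [mul_inv_cancel_left] at h4

/-- proper subgroups over `R` have index at least `7` -/
theorem seven_le {K : Type*} [Group K] [Finite K] {P R : Subgroup K} (hRP : R ≤ P)
    (hRn : ∀ x ∈ P, ∀ r ∈ R, x * r * x⁻¹ ∈ R)
    (hs : Simp P R) (hc : 720 * Nat.card R < Nat.card P) {A : Subgroup K} (hRA : R ≤ A) (hAP : A < P) :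
    7 ≤ A.relIndex P := by
  by_contra hlt
  set A' := A.subgroupOf P with hA'
  have hidx : Nat.card (P ⧸ A') = A.relIndex P := rfl
  set φ := MulAction.toPermHom P (P ⧸ A') with hφ
  have hker : φ.ker ≤ A' := by
    intro x hx
    rw [MonoidHom.mem_ker] at hx
    have h3 : φ x (QuotientGroup.mk 1) = QuotientGroup.mk 1 := by rw [hx]; rfl
    have h4 : (QuotientGroup.mk (x * 1) : P ⧸ A') = QuotientGroup.mk 1 := h3
    rw [QuotientGroup.eq, mul_one, mul_one] at h4
    have h5 := inv_mem h4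
    rwa [inv_inv] at h5
  have hR' : ∀ r : P, (r : K) ∈ R → r ∈ φ.ker := by
    intro r hr
    rw [MonoidHom.mem_ker]
    ext x
    obtain ⟨g, rfl⟩ := QuotientGroup.mk_surjective x
    show (QuotientGroup.mk (r * g) : P ⧸ A') = QuotientGroup.mk g
    rw [QuotientGroup.eq]
    apply hRA
    have h1 := hRn (g : K)⁻¹ (P.inv_mem g.2) _ (R.inv_mem hr)
    have h2 : (((r * g)⁻¹ * g : P) : K) = (g : K)⁻¹ * (r : K)⁻¹ * (g : K)⁻¹⁻¹ := by
      simp only [Subgroup.coe_mul, Subgroup.coe_inv, mul_inv_rev, inv_inv]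
    show (((r * g)⁻¹ * g : P) : K) ∈ R
    rw [h2]; exact h1
  have hcase : φ.ker.map P.subtype = R ∨ φ.ker.map P.subtype = P := by
    apply hs _ _ (map_subtype_le _)
    · rintro x hx _ ⟨b, hb, rfl⟩
      exact ⟨⟨x, hx⟩ * b * ⟨x, hx⟩⁻¹, φ.normal_ker.conj_mem b hb _, rfl⟩
    · intro r hr
      exact ⟨⟨r, hRP hr⟩, hR' ⟨r, hRP hr⟩ hr, rfl⟩
  rcases hcase with h1 | h1
  · have h2 : Nat.card φ.ker = Nat.card R := by
      rw [← h1, card_map_of_injective P.subtype_injective]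
    have h3 : Nat.card φ.ker * Nat.card φ.range = Nat.card P := by
      rw [← φ.ker.card_mul_index, index_ker]
    have h4 : Nat.card φ.range ≤ 720 := by
      have h5 : Nat.card φ.range ≤ Nat.card (Equiv.Perm (P ⧸ A')) :=
        Nat.card_le_card_of_injective _ Subtype.val_injective
      rw [Nat.card_perm, hidx] at h5
      refine h5.trans ?_
      have h6 : A.relIndex P ≤ 6 := by omega
      exact (Nat.factorial_le h6).trans (by decide)
    rw [h2] at h3
    have h5 : Nat.card R * Nat.card φ.range ≤ Nat.card R * 720 := Nat.mul_le_mul_left _ h4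
    omega
  · apply hAP.ne
    apply le_antisymm hAP.le
    intro x hx
    have h2 : x ∈ φ.ker.map P.subtype := by rw [h1]; exact hx
    obtain ⟨y, hy, rfl⟩ := h2
    exact hker hy

universe u

variable {T : Type u} [Group T] [Finite T] [IsSimpleGroup T]

theorem monster (h : Spor.IsoM T) : SQ T := by
  obtain ⟨z, P, R, L, _, _, π, h1, -, h2, -⟩ := Omega.ML.ExInst.exists_sheet (Omega.ML.ExInst.monster.{u, 0} T h)
  refine sq_of_sh5 (N := 808017424794512875886459904961710757005754368000000000) (W := 30030)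
    (L := [2, 3, 5, 7, 11, 13, 17, 19, 23, 29, 31, 41, 47, 59, 71])
    ⟨?_, ?_, ?_, {2, 3, 5, 7, 11, 13}, ?_, ?_⟩
    (NotCT.Orders.m h) (ofX h1) (c := 2 ^ 25) h2 (by norm_num) 8191 (by norm_num) (by norm_num)
  · decide +kernel
  · decide +kernel
  · decide
  · decide +kernel
  · decide +kernel

theorem baby (h : Spor.IsoB T) : SQ T := by
  obtain ⟨z, P, R, L, _, _, π, h1, -, h2, -⟩ := Omega.ML.ExInst.exists_sheet (Omega.ML.ExInst.baby.{u, 0} T h)
  refine sq_of_sh5 (N := 4154781481226426191177580544000000) (W := 210)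
    (L := [2, 3, 5, 7, 11, 13, 17, 19, 23, 31, 47])
    ⟨?_, ?_, ?_, {2, 3, 5, 7}, ?_, ?_⟩
    (NotCT.Orders.b h) (ofX h1) (c := 2 ^ 23) h2 (by norm_num) 4095 (by norm_num) (by norm_num)
  · decide +kernel
  · decide +kernel
  · decide
  · decide +kernel
  · decide +kernel

/-- the case `|R| = 2⁹`, `W = 210` -/
theorem sq_of_nine {N W : ℕ} {L : List ℕ}
    (ho : Ord N W L) (hW : W ≤ 210) (hN : Nat.card T = N) {z : T} {P R : Subgroup T} (h : Sh z P R)
    (hs : Simp P R) (hc : 720 * Nat.card R < Nat.card P) (hR : Nat.card R = 512) : SQ T := by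
  refine sq_of_sh ho hN h 7 (fun A hA1 hA2 => seven_le h.RP h.Rn hs hc hA1 hA2) (c := 512) hR (by omega) ?_
  intro r hr
  have : 31 < r := by
    by_contra hlt
    have : r * r ≤ 31 * 31 := Nat.mul_le_mul (by omega) (by omega)
    omega
  omega

open Cfsg.Agent.Th.IndexUpper Cfsg.Agent.Th.Base Cfsg.Agent.Th.CStruct Cfsg.Agent.KFacts.Th.Main Cfsg.Agent.KFacts.Th.Struct in
theorem th (h : Spor.IsoTh T) : SQ T := by
  have hcard := NotCT.Orders.th h
  obtain ⟨e⟩ := h
  have hfin := Cfsg.Agent.KFacts.Th.Main.finite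
  have hsimple : IsSimpleGroup Spor.Th := SqSzRee.simple_of_equiv e
  have hs : IsSimpleGroup (alternatingGroup (Fin 9)) := alternatingGroup.isSimpleGroup (by simp)
  obtain ⟨π, D⟩ := exists_data ctx
  refine SQ.congr e.symm ?_
  have hQ : Nat.card (Q0 gTh) = 512 := by
    have := ctx.cardQ
    exact this
  refine sq_of_nine (N := 90745943887872000) (W := 210) (L := [2, 3, 5, 7, 13, 19, 31])
    ⟨?_, ?_, ?_, {2, 3, 5, 7}, ?_, ?_⟩ le_rfl ((Nat.card_congr e.toEquiv).symm.trans hcard) (ofE sheet)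
    (simp_of_quot π D.surj D.ker) ?_ hQ
  · decide +kernel
  · decide +kernel
  · decide
  · decide +kernel
  · decide +kernel
  · rw [hQ]
    have h1 := π.ker.card_mul_index
    rw [index_ker, MonoidHom.range_eq_top.2 D.surj, card_top, nat_card_alternatingGroup, Nat.card_eq_fintype_card (α := Fin 9),
      Fintype.card_fin] at h1
    rw [← h1]
    have h2 : Nat.card π.ker = 512 := by
      have h3 : π.ker = (Q0 gTh).subgroupOf (centralizer ({gTh 1} : Set Cfsg.Spor.Th)) := by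
        ext c
        rw [MonoidHom.mem_ker, D.ker, mem_subgroupOf]
      rw [h3, Nat.card_congr (subgroupOfEquivOfLe (sheet.RP)).toEquiv, hQ]
    rw [h2]
    decide

open Cfsg.Agent.KFacts Cfsg.Agent.CoOneType.SignFacts Cfsg.Agent.CoOneType.ClosingFacts Cfsg.Agent.SporadicA.Co0Mono
  Cfsg.Agent.KFacts.Co1.InCo1 in
theorem co1 (h : Spor.IsoCo1 T) : SQ T := by
  have hcard := NotCT.Orders.co1 h
  obtain ⟨e⟩ := h
  have hfin : Finite Spor.Co1 := Finite.of_equiv _ e.toEquiv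
  have hsimple : IsSimpleGroup Spor.Co1 := SqSzRee.simple_of_equiv e
  obtain ⟨o, ho⟩ := Cfsg.Agent.CoOneType.ClosingCo1.exists_octad
  have hsh := Co1.CaseM.sheetE ho
  refine SQ.congr e.symm ?_
  have hR := Co1.YBig.card_R ho
  refine sq_of_nine (N := 4157776806543360000) (W := 210) (L := [2, 3, 5, 7, 11, 13, 23])
    ⟨?_, ?_, ?_, {2, 3, 5, 7}, ?_, ?_⟩ le_rfl ((Nat.card_congr e.toEquiv).symm.trans hcard) (ofE hsh)
    ?_ ?_ hR
  · decide +kernel
  · decide +kernel
  · decide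
  · decide +kernel
  · decide +kernel
  · intro B h1 h2 h3
    exact Co1.CaseM.normal ho B h2 h1 h3
  · rw [hR]
    have hcard : 89181388800 ≤ Nat.card (centralizer ({mk (signCo0 o)} : Set Spor.Co1)) :=
      Cfsg.Agent.CoOneType.CentOctad.card_centralizer ho
    omega

end Cfsg.Agent.H394.SqSporC
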