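import Mathlib
import Cfsg.Agent.H394.SqSporBase
import Cfsg.Agent.H394.SqJordan
import Cfsg.Agent.NotCT.Orders

/-!
# Sporadic rows by Jordan's theorem: `Co3, ON, Fi23`
-/

set_option autoImplicit false

namespace Cfsg.Agent.H394.SqSporJ

open MulAction Cfsg Subgroup Cfsg.Agent.H396 Cfsg.Agent.H394.SqSporBase Cfsg.Agent.H394.SqBasic Cfsg.Agent.H394.SqJordan
open scoped Nat

/-- maximal subgroups suffice -/
theorem sq_of_cases_max {T : Type*} [Group T] [Finite T] [IsSimpleGroup T] {N W : ℕ} {L : List ℕ}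
    (h : Ord N W L) (hN : Nat.card T = N) {p : ℕ} (hp : p.Prime) (hpN : p ∣ N) (D : List ℕ)
    (hD : ∀ d : ℕ, d < W + 1 → p ≤ d → d ∣ W → N ∣ d ! → d ∈ D)
    (hrest : ∀ M : Subgroup T, IsCoatom M → ¬ Der T M → M.index ∈ D → False) : SQ T := by
  refine sq_of_sqMax ?_
  intro M hM hsq
  left
  by_contra hder
  have h1 := h.index_dvd hN hsq hder
  have h3 := Nat.le_of_dvd h.pos h1
  refine hrest M hM hder (hD _ (by omega) ?_ h1 ?_)
  · exact le_index_of_prime_dvd hM.1 hp (by rw [hN]; exact hpN)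
  · rw [← hN]; exact card_dvd_factorial hM.1

/-- a prime `l` with `l + 3 ≤ d < 2 l` -/
theorem jordan_false {T : Type*} [Group T] [Finite T] [IsSimpleGroup T] {N : ℕ} (hN : Nat.card T = N)
    {M : Subgroup T} (hM : IsCoatom M) (l : ℕ) (hl : l.Prime) (hlN : l ∣ N) (h1 : l + 3 ≤ M.index)
    (h2 : M.index < 2 * l) (h3 : 2 * N < (M.index)!) : False := by
  have := Fact.mk hl
  obtain ⟨g, hg⟩ := exists_prime_orderOf_dvd_card' (G := T) l (by rw [hN]; exact hlN)
  have hgl : g ^ l = 1 := by rw [← hg]; exact pow_orderOf_eq_one g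
  have hg1 : g ≠ 1 := by
    rintro rfl
    rw [orderOf_one] at hg
    exact hl.one_lt.ne hg
  have h4 := jordan hM hl hgl hg1 (by omega) h1 (by have := hl.two_le; omega)
  rw [hN] at h4
  omega

universe u
variable {T : Type u} [Group T] [Finite T] [IsSimpleGroup T]

theorem co3 (h : Spor.IsoCo3 T) : SQ T := by
  have hN := NotCT.Orders.co3 h
  refine sq_of_cases_max (N := 495766656000) (W := 30) (L := [2, 3, 5, 7, 11, 23]) ⟨?_, ?_, ?_, {2, 3, 5}, ?_, ?_⟩
    hN (p := 23) (by norm_num) (by norm_num) [30] ?_ ?_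
  · decide +kernel
  · decide +kernel
  · decide
  · decide
  · decide +kernel
  · intro d h1 h2 h3 _
    have : ∀ d < 31, 23 ≤ d → d ∣ 30 → d ∈ [30] := by decide
    exact this d h1 h2 h3
  · intro M hM _ hd
    rw [List.mem_singleton] at hd
    exact jordan_false hN hM 23 (by norm_num) (by norm_num) (by omega) (by omega) (by rw [hd]; decide)

theorem on (h : Spor.IsoON T) : SQ T := by
  have hN := NotCT.Orders.on h
  refine sq_of_cases_max (N := 460815505920) (W := 42) (L := [2, 3, 5, 7, 11, 19, 31]) ⟨?_, ?_, ?_, {2, 3, 7}, ?_, ?_⟩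
    hN (p := 31) (by norm_num) (by norm_num) [42] ?_ ?_
  · decide +kernel
  · decide +kernel
  · decide
  · decide
  · decide +kernel
  · intro d h1 h2 h3 _
    have : ∀ d < 43, 31 ≤ d → d ∣ 42 → d ∈ [42] := by decide
    exact this d h1 h2 h3
  · intro M hM _ hd
    rw [List.mem_singleton] at hd
    exact jordan_false hN hM 31 (by norm_num) (by norm_num) (by omega) (by omega) (by rw [hd]; decide)

theorem fi23 (h : Spor.IsoFi23 T) : SQ T := by
  have hN := NotCT.Orders.fi23 h
  refine sq_of_cases_max (N := 4089470473293004800) (W := 30) (L := [2, 3, 5, 7, 11, 13, 17, 23])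
    ⟨?_, ?_, ?_, {2, 3, 5}, ?_, ?_⟩
    hN (p := 23) (by norm_num) (by norm_num) [30] ?_ ?_
  · decide +kernel
  · decide +kernel
  · decide
  · decide
  · decide +kernel
  · intro d h1 h2 h3 _
    have : ∀ d < 31, 23 ≤ d → d ∣ 30 → d ∈ [30] := by decide
    exact this d h1 h2 h3
  · intro M hM _ hd
    rw [List.mem_singleton] at hd
    exact jordan_false hN hM 23 (by norm_num) (by norm_num) (by omega) (by omega) (by rw [hd]; decide)

end Cfsg.Agent.H394.SqSporJ
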