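import Mathlib
import Cfsg.Agent.H394.SqSporJ
import Cfsg.Agent.H836.Main

/-!
# `SQ` for `Fi22`
-/

set_option autoImplicit false

namespace Cfsg.Agent.H394.SqSporFi

open MulAction Cfsg Subgroup Cfsg.Agent.H396 Cfsg.Agent.H394.SqSporBase Cfsg.Agent.H394.SqBasic Cfsg.Agent.H394.SqJordan
  Cfsg.Agent.H394.SqSporJ
open scoped Nat

/-- the number of fixed points of an element of prime order -/
theorem exists_fix {T : Type*} [Group T] [Finite T] {N : ℕ} (hN : Nat.card T = N)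
    {M : Subgroup T} (l : ℕ) (hl : l.Prime) (hlN : l ∣ N) (hlN2 : ¬ l ^ 2 ∣ N) (hli : ¬ l ∣ M.index) {g : T}
    (hg : orderOf g = l) : {x : T ⧸ M | g • x = x}.ncard ≡ M.index [MOD l] ∧ {x : T ⧸ M | g • x = x}.ncard ≤ M.index ∧
      l * {x : T ⧸ M | g • x = x}.ncard ∣ Nat.card (normalizer (zpowers g : Set T)) := by
  have hgl : g ^ l = 1 := by rw [← hg]; exact pow_orderOf_eq_one g
  refine ⟨card_fix_mod hl hgl, ?_, ?_⟩
  · have h1 := Set.ncard_le_ncard (Set.subset_univ {x : T ⧸ M | g • x = x}) (Set.toFinite _)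
    rwa [Set.ncard_univ] at h1
  · refine card_fix_mul hl hg (by rw [hN]; exact hlN2) ?_
    rw [← hN, ← M.card_mul_index] at hlN
    exact (hl.dvd_mul.1 hlN).resolve_right hli

universe u
variable {T : Type u} [Group T] [Finite T] [IsSimpleGroup T]

theorem fi22 (h : Spor.IsoFi22 T) : SQ T := by
  have hN := NotCT.Orders.fi22 h
  refine sq_of_cases (N := 64561751654400) (W := 30) (L := [2, 3, 5, 7, 11, 13])
    ⟨?_, ?_, ?_, {2, 3, 5}, ?_, ?_⟩
    hN (p := 13) (by norm_num) (by norm_num) [30] ?_ ?_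
  · decide +kernel
  · decide +kernel
  · decide
  · decide
  · decide +kernel
  · intro d h1 h2 h3 h4
    have : ∀ d < 31, 13 ≤ d → d ∣ 30 → d = 15 ∨ d = 30 := by decide
    rcases this d h1 h2 h3 with rfl | rfl
    · exfalso
      revert h4
      decide +kernel
    · simp
  · intro M hM _ hd
    rw [List.mem_singleton] at hd
    obtain ⟨e⟩ := h
    obtain ⟨g, hg⟩ := @exists_prime_orderOf_dvd_card' T _ _ 13 ⟨by norm_num⟩ (by rw [hN]; norm_num)
    obtain ⟨h1, h2, h3⟩ := exists_fix hN (M := M) 13 (by norm_num) (by norm_num) (by norm_num) (by rw [hd]; norm_num) hg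
    have h4 := ((Cfsg.Agent.H836.Main.thirteen_concl e).2 (zpowers g) (by rw [Nat.card_zpowers, hg])).1
    rw [h4] at h3
    rw [hd] at h1 h2
    obtain ⟨F, hF⟩ : ∃ F, {x : T ⧸ M | g • x = x}.ncard = F := ⟨_, rfl⟩
    rw [hF] at h1 h2 h3
    have h5 : ∀ F < 31, F % 13 = 30 % 13 → ¬ 13 * F ∣ 78 := by decide
    exact h5 F (by omega) h1 h3

end Cfsg.Agent.H394.SqSporFi
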