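import Mathlib
import Cfsg.Agent.H394.SqSporFi
import Cfsg.Agent.H836.Sylow
import Cfsg.Agent.H661.SporMcL
import Cfsg.Agent.CTwoTab.HS
import Cfsg.Agent.KFacts.HS.Sheet

/-!
# `SQ` for `HS` and `McL`
-/

set_option autoImplicit false

namespace Cfsg.Agent.H394.SqSporHM

open MulAction Cfsg Subgroup Cfsg.Agent.H396 Cfsg.Agent.H394.SqSporBase Cfsg.Agent.H394.SqBasic Cfsg.Agent.H394.SqJordan
  Cfsg.Agent.H394.SqSporJ Cfsg.Agent.H394.SqSporFi
open scoped Nat

/-- an element of order `l` moves a coset -/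
theorem fix_lt {T : Type*} [Group T] [Finite T] [IsSimpleGroup T] {M : Subgroup T} (hM : M ≠ ⊤) {g : T}
    (hg : g ≠ 1) : {x : T ⧸ M | g • x = x}.ncard < M.index := by
  obtain ⟨x, hx⟩ := exists_moved hM hg
  have h1 : {x : T ⧸ M | g • x = x}.ncard < (Set.univ : Set (T ⧸ M)).ncard := by
    refine Set.ncard_lt_ncard ⟨Set.subset_univ _, fun h => ?_⟩ (Set.toFinite _)
    exact hx (h (Set.mem_univ x))
  rwa [Set.ncard_univ] at h1

/-- an even centralizer -/
theorem inv_of_even {T : Type*} [Group T] [Finite T] {g : T} {l : ℕ} (hg : orderOf g = l)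
    (h : 2 ∣ Nat.card (centralizer (zpowers g : Set T))) : ∃ t : T, orderOf t = 2 ∧
      l ∣ Nat.card (centralizer ({t} : Set T)) := by
  obtain ⟨t, ht⟩ := @exists_prime_orderOf_dvd_card' _ _ _ 2 ⟨Nat.prime_two⟩ h
  refine ⟨t, (orderOf_injective (centralizer (zpowers g : Set T)).subtype (Subgroup.subtype_injective _) t).trans ht, ?_⟩
  have h1 : g ∈ centralizer ({(t : T)} : Set T) := by
    rw [mem_centralizer_singleton_iff]
    exact mem_centralizer_iff.1 t.2 g (mem_zpowers g)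
  have h2 : orderOf (⟨g, h1⟩ : centralizer ({(t : T)} : Set T)) = l :=
    (orderOf_injective (centralizer ({(t : T)} : Set T)).subtype (Subgroup.subtype_injective _) ⟨g, h1⟩).symm.trans hg
  rw [← h2]
  exact orderOf_dvd_natCard _

/-- **HS and McL** -/
theorem eleven_false {T : Type*} [Group T] [Finite T] [IsSimpleGroup T] {N : ℕ} (hN : Nat.card T = N)
    (h11 : 11 ∣ N) (h121 : ¬ 11 ^ 2 ∣ N) (hNf : 2 * N < 15 !)
    (hinv : ∀ t : T, orderOf t = 2 → ¬ 11 ∣ Nat.card (centralizer ({t} : Set T)))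
    {M : Subgroup T} (hM : IsCoatom M) (hd : M.index = 15 ∨ M.index = 30) : False := by
  have h11p : Nat.Prime 11 := by norm_num
  obtain ⟨g, hg⟩ := @exists_prime_orderOf_dvd_card' T _ _ 11 ⟨h11p⟩ (by rw [hN]; exact h11)
  have hg1 : g ≠ 1 := by
    rintro rfl
    rw [orderOf_one] at hg
    omega
  have hgl : g ^ 11 = 1 := by rw [← hg]; exact pow_orderOf_eq_one g
  obtain ⟨h1, h2, h3⟩ := exists_fix hN (M := M) 11 h11p h11 h121 (by rcases hd with h | h <;> rw [h] <;> norm_num) hg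
  have h4 := fix_lt hM.1 hg1
  have hJ := fun h => jordan hM h11p hgl hg1 h (by omega) (by omega)
  obtain ⟨F, hF⟩ : ∃ F, {x : T ⧸ M | g • x = x}.ncard = F := ⟨_, rfl⟩
  rw [hF] at h1 h2 h3 h4 hJ
  have h15 : 15 ! ≤ (M.index)! := Nat.factorial_le (by omega)
  have h5 : ¬ M.index < F + 2 * 11 := fun h => by
    have := hJ h
    rw [hN] at this
    omega
  have h6 : F % 11 = M.index % 11 := h1
  have h7 : F = 8 ∧ M.index = 30 := by
    rcases hd with h | h <;> rw [h] at h6 h5 h4 <;> omega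
  obtain ⟨n, k, -, hk, -, hk2⟩ := Cfsg.Agent.H836.Sylow.card_normalizer (G := T) h11p (by rw [hN]; exact h121)
    (X := zpowers g) (by rw [Nat.card_zpowers, hg])
  rw [hk2, h7.1] at h3
  have h8 : 2 ∣ Nat.card (centralizer (zpowers g : Set T)) := by
    have h9 : 11 * 8 ∣ Nat.card (centralizer (zpowers g : Set T)) * 10 := h3.trans (Nat.mul_dvd_mul_left _ hk)
    omega
  obtain ⟨t, ht, htl⟩ := inv_of_even hg h8
  exact hinv t ht htl

theorem ord_conj {T : Type*} [Group T] [Finite T] {a b c : T} (h : c * a * c⁻¹ = b) :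
    Nat.card (centralizer ({b} : Set T)) = Nat.card (centralizer ({a} : Set T)) := by
  refine Nat.card_congr ⟨fun x => ⟨c⁻¹ * x * c, ?_⟩, fun x => ⟨c * x * c⁻¹, ?_⟩, fun x => ?_, fun x => ?_⟩
  · have hx := mem_centralizer_singleton_iff.1 x.2
    rw [mem_centralizer_singleton_iff]
    calc c⁻¹ * x * c * a = c⁻¹ * (x * (c * a * c⁻¹)) * c := by group
      _ = c⁻¹ * ((c * a * c⁻¹) * x) * c := by rw [h, hx]
      _ = a * (c⁻¹ * x * c) := by group
  · have hx := mem_centralizer_singleton_iff.1 x.2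
    rw [mem_centralizer_singleton_iff, ← h]
    calc c * x * c⁻¹ * (c * a * c⁻¹) = c * (x * a) * c⁻¹ := by group
      _ = c * (a * x) * c⁻¹ := by rw [hx]
      _ = c * a * c⁻¹ * (c * x * c⁻¹) := by group
  · apply Subtype.ext
    show c * (c⁻¹ * x * c) * c⁻¹ = (x : T)
    group
  · apply Subtype.ext
    show c⁻¹ * (c * x * c⁻¹) * c = (x : T)
    group

universe u
variable {T : Type u} [Group T] [Finite T] [IsSimpleGroup T]

theorem mcl (h : Spor.IsoMcL T) : SQ T := by
  have hN := NotCT.Orders.mcl h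
  refine sq_of_cases_max (N := 898128000) (W := 30) (L := [2, 3, 5, 7, 11])
    ⟨?_, ?_, ?_, {2, 3, 5}, ?_, ?_⟩
    hN (p := 11) (by norm_num) (by norm_num) [15, 30] ?_ ?_
  · decide +kernel
  · decide +kernel
  · decide
  · decide
  · decide +kernel
  · intro d h1 h2 h3 _
    have : ∀ d < 31, 11 ≤ d → d ∣ 30 → d ∈ [15, 30] := by decide
    exact this d h1 h2 h3
  · intro M hM _ hd
    obtain ⟨-, -, -, ⟨L⟩⟩ := Cfsg.Agent.TypeM.FactsMcL.facts h
    refine eleven_false hN (by norm_num) (by norm_num) (by decide) ?_ hM (by simpa using hd)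
    intro t ht
    obtain ⟨g, hg⟩ := L.one t (by rw [← pow_two, ← ht, pow_orderOf_eq_one]) (by
      rintro rfl
      rw [orderOf_one] at ht
      omega)
    rw [ord_conj hg, Cfsg.Agent.H661.Spor.McL.card_C L]
    norm_num

open Cfsg.Agent.KFacts.HS Cfsg.Agent.KFacts.HS.DFour in
theorem hs (h : Spor.IsoHS T) : SQ T := by
  have hN := NotCT.Orders.hs h
  refine sq_of_cases_max (N := 44352000) (W := 30) (L := [2, 3, 5, 7, 11])
    ⟨?_, ?_, ?_, {2, 3, 5}, ?_, ?_⟩
    hN (p := 11) (by norm_num) (by norm_num) [15, 30] ?_ ?_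
  · decide +kernel
  · decide +kernel
  · decide
  · decide
  · decide +kernel
  · intro d h1 h2 h3 _
    have : ∀ d < 31, 11 ≤ d → d ∣ 30 → d ∈ [15, 30] := by decide
    exact this d h1 h2 h3
  · intro M hM _ hd
    obtain ⟨D⟩ := exists_mod h
    have hB : Nat.card (centralizer ({wB D} : Set T)) ≤ 2880 := card_C D
    have hB1 : 360 ∣ Nat.card (centralizer ({wB D} : Set T)) := by
      rw [← card_LA D]
      exact card_dvd_of_le (Cfsg.Agent.CTwoTab.HS.LA_le D)
    have hB2 : ¬ 11 ∣ Nat.card (centralizer ({wB D} : Set T)) := by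
      have hpos : 0 < Nat.card (centralizer ({wB D} : Set T)) := Nat.card_pos
      obtain ⟨k, hk⟩ := hB1
      rw [hk] at hB hpos ⊢
      omega
    have hz : Nat.card (centralizer ({D.z} : Set T)) = 7680 := D.card_centralizer
    have hA : Nat.card (centralizer ({zA D} : Set T)) = 7680 := by
      rcases inv_cases D D.z D.zz D.z1 with ⟨c, hc⟩ | ⟨c, hc⟩
      · rw [← ord_conj hc, hz]
      · have := ord_conj hc
        omega
    refine eleven_false hN (by norm_num) (by norm_num) (by decide) ?_ hM (by simpa using hd)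
    intro t ht
    rcases inv_cases D t (by rw [← pow_two, ← ht, pow_orderOf_eq_one]) (by
      rintro rfl
      rw [orderOf_one] at ht
      omega) with ⟨c, hc⟩ | ⟨c, hc⟩
    · rw [ord_conj hc, hA]; norm_num
    · rw [ord_conj hc]; exact hB2

end Cfsg.Agent.H394.SqSporHM
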