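import Mathlib
import Cfsg.Agent.H394.SqSporFi
import Cfsg.Agent.H394.SqSzRee
import Cfsg.Agent.H394.HeSeventeen
import Cfsg.Agent.H836.Sylow
import Cfsg.Agent.FixBN.HeSB

/-!
# `SQ` for the Held group
-/

set_option autoImplicit false

namespace Cfsg.Agent.H394.SqSporHe

open MulAction Cfsg Subgroup Cfsg.Agent.H396 Cfsg.Agent.H394.SqSporBase Cfsg.Agent.H394.SqBasic
  Cfsg.Agent.H394.SqJordan Cfsg.Agent.H394.SqSporJ Cfsg.Agent.H394.SqSporFi
open Cfsg.Agent.FixBN.HeCent Cfsg.Agent.FixBN.HeSB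
open scoped Nat

/-- `P₂ P₁ⁿ = P₁ⁿ P₂ Zⁿ` -/
theorem P₂_P₁_pow (n : ℕ) : P₂ * P₁ ^ n = P₁ ^ n * P₂ * Z ^ n := by
  induction n with
  | zero => simp
  | succ n ih =>
    have hz : Z ^ n * P₁ = P₁ * Z ^ n := ((show Commute Z P₁ from comm_P₁_Z.symm).pow_left n).eq
    calc P₂ * P₁ ^ (n + 1) = (P₂ * P₁ ^ n) * P₁ := by rw [pow_succ, mul_assoc]
      _ = P₁ ^ n * P₂ * (Z ^ n * P₁) := by rw [ih, mul_assoc]
      _ = P₁ ^ n * (P₂ * P₁) * Z ^ n := by rw [hz]; simp only [mul_assoc]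
      _ = P₁ ^ n * (P₁ * (P₂ * Z)) * Z ^ n := by rw [P₂_P₁]
      _ = P₁ ^ (n + 1) * P₂ * Z ^ (n + 1) := by
        rw [pow_succ, pow_succ' Z]; simp only [mul_assoc]

/-- the second group of order 49 -/
noncomputable def A' : Spor.He := P₁ ^ 5 * P₂

theorem A'_Z : A' * Z = Z * A' := by
  have h1 : Commute (P₁ ^ 5) Z := (show Commute P₁ Z from comm_P₁_Z).pow_left 5
  exact (h1.mul_left (show Commute P₂ Z from comm_P₂_Z)).eq

theorem Z_ne : Z ≠ 1 := by
  intro h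
  have h2 := H_P₂
  rw [h, one_mul] at h2
  have h3 : P₂ = 1 := by
    have : H * P₂ = H * 1 := by rw [h2, mul_one]
    exact mul_left_cancel this
  have h4 := N_Z
  rw [h, h3, mul_one, mul_one] at h4
  have h5 : P₁ ^ 5 = 1 := by
    have : P₁ ^ 5 * N = 1 * N := by rw [← h4, one_mul]
    exact mul_right_cancel this
  have h6 : P₁ = 1 := by
    have e : P₁ = (P₁ ^ 5) ^ 3 * (P₁ ^ 7)⁻¹ * (P₁ ^ 7)⁻¹ := by group
    rw [e, h5, P₁_pow]; simp
  -- everything is generated by `H, N`; the point 0 is moved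
  have hc := eq_el_of_comm (c := H) (by rw [h3]; simp) (by rw [h]; simp)
  obtain ⟨i, j, hij⟩ := hc
  have hc' := eq_el_of_comm (c := N) (by rw [h3]; simp) (by rw [h]; simp)
  obtain ⟨i', j', hij'⟩ := hc'
  have e1 : ∀ i j, el i j = 1 := by
    intro i j
    unfold el
    rw [h3, h, one_pow, one_pow, mul_one]
  rw [e1] at hij hij'
  have htop : (⊥ : Subgroup Spor.He) = ⊤ :=
    eq_top_of_mem (by rw [h6]; exact one_mem _) (by rw [h3]; exact one_mem _) (by rw [h]; exact one_mem _)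
      (by rw [hij]; exact one_mem _) (by rw [hij']; exact one_mem _)
  have h7 : Nat.card (⊥ : Subgroup Spor.He) = Nat.card (⊤ : Subgroup Spor.He) := by rw [htop]
  rw [card_bot, card_top, Cfsg.Agent.FixBN.HeStab.card_he] at h7
  omega

theorem A'_conj : N * Z * N⁻¹ = A' := by
  rw [N_Z]; unfold A'; group

theorem P₂_conj : H⁻¹ * Z * H⁻¹⁻¹ = P₂ := by
  rw [inv_inv, mul_assoc, ← H_P₂]; group

theorem A'_pow : A' ^ 7 = 1 := by
  rw [← A'_conj, conj_pow, Z_pow]; group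

/-- not both groups of order 49 meet a subgroup not containing `Z` -/
theorem not_both {S : Subgroup Spor.He} (hZ : Z ∉ S) {j j' : ℕ} (h1 : P₂ * Z ^ j ∈ S) (h2 : A' * Z ^ j' ∈ S) :
    False := by
  apply hZ
  have c1 : Commute (Z ^ j) A' := (show Commute Z A' from A'_Z.symm).pow_left j
  have c2 : Commute (Z ^ j') P₂ := (show Commute Z P₂ from comm_P₂_Z.symm).pow_left j'
  have c3 : Commute (Z ^ j) (Z ^ j') := Commute.pow_pow_self Z j j'
  have h3 : P₂ * A' = A' * P₂ * Z ^ 5 := by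
    unfold A'
    have c4 : Commute (Z ^ 5) P₂ := (show Commute Z P₂ from comm_P₂_Z.symm).pow_left 5
    calc P₂ * (P₁ ^ 5 * P₂) = (P₂ * P₁ ^ 5) * P₂ := by rw [mul_assoc]
      _ = P₁ ^ 5 * P₂ * (Z ^ 5 * P₂) := by rw [P₂_P₁_pow]; simp only [mul_assoc]
      _ = P₁ ^ 5 * P₂ * (P₂ * Z ^ 5) := by rw [c4.eq]
      _ = P₁ ^ 5 * P₂ * P₂ * Z ^ 5 := by simp only [mul_assoc]
  have h4 : (P₂ * Z ^ j) * (A' * Z ^ j') = (A' * Z ^ j') * (P₂ * Z ^ j) * Z ^ 5 := by
    have c5 : Commute (Z ^ 5) (Z ^ j) := Commute.pow_pow_self Z 5 j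
    have c6 : Commute (Z ^ 5) (Z ^ j') := Commute.pow_pow_self Z 5 j'
    calc (P₂ * Z ^ j) * (A' * Z ^ j') = P₂ * (Z ^ j * A') * Z ^ j' := by simp only [mul_assoc]
      _ = (P₂ * A') * (Z ^ j * Z ^ j') := by rw [c1.eq]; simp only [mul_assoc]
      _ = A' * P₂ * (Z ^ 5 * (Z ^ j' * Z ^ j)) := by rw [h3, c3.eq]; simp only [mul_assoc]
      _ = A' * P₂ * (Z ^ j' * Z ^ j * Z ^ 5) := by rw [(c6.mul_right c5).eq]
      _ = A' * (P₂ * Z ^ j') * Z ^ j * Z ^ 5 := by simp only [mul_assoc]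
      _ = A' * (Z ^ j' * P₂) * Z ^ j * Z ^ 5 := by rw [c2.eq]
      _ = _ := by simp only [mul_assoc]
  have h5 : Z ^ 5 ∈ S := by
    have h6 : Z ^ 5 = ((A' * Z ^ j') * (P₂ * Z ^ j))⁻¹ * ((P₂ * Z ^ j) * (A' * Z ^ j')) := by
      rw [h4]; group
    rw [h6]
    exact S.mul_mem (S.inv_mem (S.mul_mem h2 h1)) (S.mul_mem h1 h2)
  have h6 : Z = (Z ^ 5) ^ 3 * (Z ^ 7)⁻¹ * (Z ^ 7)⁻¹ := by group
  rw [h6, Z_pow]
  simpa using S.pow_mem h5 3

/-- the exponents of the elements of `⟨a, Z⟩ ∩ S` -/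
theorem exps {S : Subgroup Spor.He} {a : Spor.He} (ha : a ^ 7 = 1) (haZ : a * Z = Z * a) (hZ : Z ∉ S)
    (hno : ∀ j : ℕ, a * Z ^ j ∉ S) {i j : ℕ} (h : a ^ i * Z ^ j ∈ S) : 7 ∣ i ∧ 7 ∣ j := by
  have hcomm : ∀ i j : ℕ, Commute (a ^ i) (Z ^ j) := fun i j => (show Commute a Z from haZ).pow_pow i j
  have hinv : ∀ n : ℕ, ¬ 7 ∣ n → ∃ m : ℕ, n * m % 7 = 1 := by
    intro n hn
    have hn' : n % 7 = 1 ∨ n % 7 = 2 ∨ n % 7 = 3 ∨ n % 7 = 4 ∨ n % 7 = 5 ∨ n % 7 = 6 := by omega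
    rcases hn' with h | h | h | h | h | h
    · exact ⟨1, by rw [Nat.mul_mod, h]⟩
    · exact ⟨4, by rw [Nat.mul_mod, h]⟩
    · exact ⟨5, by rw [Nat.mul_mod, h]⟩
    · exact ⟨2, by rw [Nat.mul_mod, h]⟩
    · exact ⟨3, by rw [Nat.mul_mod, h]⟩
    · exact ⟨6, by rw [Nat.mul_mod, h]⟩
  have hred : ∀ (b : Spor.He) (n : ℕ), b ^ 7 = 1 → n % 7 = 1 → b ^ n = b := by
    intro b n hb hn
    rw [← Nat.div_add_mod n 7, hn, pow_add, pow_mul, hb, one_pow, one_mul, pow_one]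
  have h7i : 7 ∣ i := by
    by_contra hi
    obtain ⟨m, hm⟩ := hinv i hi
    have h1 := S.pow_mem h m
    rw [(hcomm i j).mul_pow, ← pow_mul, ← pow_mul, hred a _ ha hm] at h1
    exact hno _ h1
  refine ⟨h7i, ?_⟩
  by_contra hj
  obtain ⟨m, hm⟩ := hinv j hj
  obtain ⟨k, rfl⟩ := h7i
  rw [pow_mul, ha, one_pow, one_mul] at h
  have h1 := S.pow_mem h m
  rw [← pow_mul, hred Z _ Z_pow hm] at h1
  exact hZ h1

section act

variable {X : Type*} [MulAction Spor.He X] [Finite X]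

/-- the regular orbit -/
theorem card_range {x : X} {a : Spor.He} (ha : a ^ 7 = 1) (haZ : a * Z = Z * a) (hZ : Z • x ≠ x)
    (hno : ∀ j : ℕ, (a * Z ^ j) • x ≠ x) :
    (Set.range fun p : Fin 7 × Fin 7 => (a ^ (p.1 : ℕ) * Z ^ (p.2 : ℕ)) • x).ncard = 49 := by
  have hinj : Function.Injective fun p : Fin 7 × Fin 7 => (a ^ (p.1 : ℕ) * Z ^ (p.2 : ℕ)) • x := by
    rintro ⟨i, j⟩ ⟨i', j'⟩ h
    have hcomm : ∀ i j : ℕ, Commute (a ^ i) (Z ^ j) := fun i j => (show Commute a Z from haZ).pow_pow i j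
    have h' : (a ^ (i : ℕ) * Z ^ (j : ℕ)) • x = (a ^ (i' : ℕ) * Z ^ (j' : ℕ)) • x := h
    have h1 : a ^ (7 - (i' : ℕ) + i) * Z ^ (7 - (j' : ℕ) + j) ∈ stabilizer Spor.He x := by
      have e : a ^ (7 - (i' : ℕ) + i) * Z ^ (7 - (j' : ℕ) + j) =
          (a ^ (7 - (i' : ℕ)) * Z ^ (7 - (j' : ℕ))) * (a ^ (i : ℕ) * Z ^ (j : ℕ)) := by
        rw [pow_add, pow_add]
        calc a ^ (7 - (i' : ℕ)) * a ^ (i : ℕ) * (Z ^ (7 - (j' : ℕ)) * Z ^ (j : ℕ))
            = a ^ (7 - (i' : ℕ)) * (a ^ (i : ℕ) * Z ^ (7 - (j' : ℕ))) * Z ^ (j : ℕ) := by simp only [mul_assoc]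
          _ = a ^ (7 - (i' : ℕ)) * (Z ^ (7 - (j' : ℕ)) * a ^ (i : ℕ)) * Z ^ (j : ℕ) := by rw [(hcomm _ _).eq]
          _ = _ := by simp only [mul_assoc]
      rw [mem_stabilizer_iff, e, mul_smul, h', ← mul_smul]
      have e2 : (a ^ (7 - (i' : ℕ)) * Z ^ (7 - (j' : ℕ))) * (a ^ (i' : ℕ) * Z ^ (j' : ℕ)) = 1 := by
        calc (a ^ (7 - (i' : ℕ)) * Z ^ (7 - (j' : ℕ))) * (a ^ (i' : ℕ) * Z ^ (j' : ℕ))
            = a ^ (7 - (i' : ℕ)) * (Z ^ (7 - (j' : ℕ)) * a ^ (i' : ℕ)) * Z ^ (j' : ℕ) := by simp only [mul_assoc]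
          _ = a ^ (7 - (i' : ℕ)) * (a ^ (i' : ℕ) * Z ^ (7 - (j' : ℕ))) * Z ^ (j' : ℕ) := by rw [(hcomm _ _).eq]
          _ = (a ^ (7 - (i' : ℕ)) * a ^ (i' : ℕ)) * (Z ^ (7 - (j' : ℕ)) * Z ^ (j' : ℕ)) := by simp only [mul_assoc]
          _ = 1 := by
            rw [← pow_add, ← pow_add, Nat.sub_add_cancel (by omega), Nat.sub_add_cancel (by omega), ha, Z_pow, mul_one]
      rw [e2, one_smul]
    obtain ⟨h2, h3⟩ := exps ha haZ (S := stabilizer Spor.He x) hZ hno h1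
    have hi := i.2
    have hi' := i'.2
    have hj := j.2
    have hj' := j'.2
    have e1 : (i : ℕ) = i' := by omega
    have e2 : (j : ℕ) = j' := by omega
    rw [Fin.ext e1, Fin.ext e2]
  rw [← Set.image_univ, Set.ncard_image_of_injective _ hinj, Set.ncard_univ, Nat.card_prod,
    Nat.card_eq_fintype_card, Fintype.card_fin]

/-- one of the two groups of order 49 has a regular orbit -/
theorem exists_reg {x : X} (hZ : Z • x ≠ x) : ∃ a : Spor.He, a ^ 7 = 1 ∧ a * Z = Z * a ∧ a ∈ P ∧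
    (∃ g : Spor.He, g * Z * g⁻¹ = a) ∧ (∀ j : ℕ, (a * Z ^ j) • x ≠ x) := by
  have hP₁ : P₁ ∈ P := mem_sup_left (mem_zpowers _)
  have hP₂ : P₂ ∈ P := mem_sup_right (mem_sup_left (mem_zpowers _))
  by_cases h : ∀ j : ℕ, (P₂ * Z ^ j) • x ≠ x
  · exact ⟨P₂, P₂_pow, comm_P₂_Z, hP₂, ⟨H⁻¹, P₂_conj⟩, h⟩
  · push Not at h
    obtain ⟨j, hj⟩ := h
    refine ⟨A', A'_pow, A'_Z, P.mul_mem (P.pow_mem hP₁ 5) hP₂, ⟨N, A'_conj⟩, fun j' hj' => ?_⟩
    exact not_both (S := stabilizer Spor.He x) hZ hj hj'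

/-- the degree is at least 49 -/
theorem forty_nine_le {x : X} (hZ : Z • x ≠ x) : 49 ≤ Nat.card X := by
  obtain ⟨a, h1, h2, -, -, h3⟩ := exists_reg hZ
  rw [← card_range h1 h2 hZ h3, ← Set.ncard_univ]
  exact Set.ncard_le_ncard (Set.subset_univ _) (Set.toFinite _)

/-- the orbits of the Sylow subgroup on the points moved by `Z` in degree `70` -/
theorem card_orbit (hX : Nat.card X = 70) {x : X} (hZ : Z • x ≠ x) : (orbit P x).ncard = 49 := by
  obtain ⟨a, h1, h2, h3, -, h4⟩ := exists_reg hZ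
  have hZP : Z ∈ P := mem_sup_right (mem_sup_right (mem_zpowers _))
  have h5 : (Set.range fun p : Fin 7 × Fin 7 => (a ^ (p.1 : ℕ) * Z ^ (p.2 : ℕ)) • x) ⊆ orbit P x := by
    rintro _ ⟨p, rfl⟩
    exact ⟨⟨a ^ (p.1 : ℕ) * Z ^ (p.2 : ℕ), P.mul_mem (P.pow_mem h3 _) (P.pow_mem hZP _)⟩, rfl⟩
  have h6 := Set.ncard_le_ncard h5 (Set.toFinite _)
  rw [card_range h1 h2 hZ h4] at h6
  have h7 : (orbit P x).ncard ≤ 70 := by
    rw [← hX, ← Set.ncard_univ]
    exact Set.ncard_le_ncard (Set.subset_univ _) (Set.toFinite _)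
  have : Fact (Nat.Prime 7) := ⟨by norm_num⟩
  have h8 : ∃ n : ℕ, (orbit P x).ncard = 7 ^ n := by
    rw [← index_stabilizer]
    obtain ⟨k, hk⟩ := IsPGroup.iff_card.1 isPGroup_P
    have h9 := (stabilizer P x).index_dvd_card
    rw [hk] at h9
    obtain ⟨n, -, hn⟩ := (Nat.dvd_prime_pow (by norm_num)).1 h9
    exact ⟨n, hn⟩
  obtain ⟨n, hn⟩ := h8
  rw [hn] at h6 h7 ⊢
  have hn2 : 2 ≤ n := by
    by_contra h
    have : 7 ^ n ≤ 7 ^ 1 := Nat.pow_le_pow_right (by norm_num) (by omega)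
    omega
  have hn3 : n ≤ 2 := by
    by_contra h
    have : 7 ^ 3 ≤ 7 ^ n := Nat.pow_le_pow_right (by norm_num) (by omega)
    omega
  have : n = 2 := by omega
  rw [this]; norm_num

theorem Z_comm {p : Spor.He} (hp : p ∈ P) : Z * p = p * Z := by
  have h1 : P ≤ centralizer ({Z} : Set Spor.He) := by
    unfold P
    rw [sup_le_iff, sup_le_iff, zpowers_le, zpowers_le, zpowers_le]
    exact ⟨mem_centralizer_singleton_iff.2 comm_P₁_Z, mem_centralizer_singleton_iff.2 comm_P₂_Z,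
      mem_centralizer_singleton_iff.2 rfl⟩
  exact (mem_centralizer_singleton_iff.1 (h1 hp)).symm

/-- the points moved by `Z` -/
theorem moved_eq (hX : Nat.card X = 70) {x : X} (hZ : Z • x ≠ x) : {y : X | Z • y ≠ y} = orbit P x := by
  have h1 : orbit P x ⊆ {y : X | Z • y ≠ y} := by
    rintro _ ⟨p, rfl⟩
    show Z • ((p : Spor.He) • x) ≠ (p : Spor.He) • x
    rw [← mul_smul, Z_comm p.2, mul_smul]
    intro h
    exact hZ (MulAction.injective (p : Spor.He) h)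
  apply Set.Subset.antisymm _ h1
  intro y hy
  by_contra hno
  have h2 : Disjoint (orbit P x) (orbit P y) := by
    rw [Set.disjoint_left]
    intro z hz hz'
    apply hno
    have e1 := orbit_eq_iff.2 hz
    have e2 := orbit_eq_iff.2 hz'
    rw [← e1, e2]
    exact mem_orbit_self y
  have h3 := Set.ncard_union_eq h2 (Set.toFinite _) (Set.toFinite _)
  rw [card_orbit hX hZ, card_orbit hX hy] at h3
  have h4 : (orbit P x ∪ orbit P y).ncard ≤ 70 := by
    rw [← hX, ← Set.ncard_univ]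
    exact Set.ncard_le_ncard (Set.subset_univ _) (Set.toFinite _)
  omega

theorem ncard_moved_conj {g z a : Spor.He} (h : g * z * g⁻¹ = a) :
    {y : X | a • y ≠ y}.ncard = {y : X | z • y ≠ y}.ncard := by
  have h1 : {y : X | a • y ≠ y} = (fun y : X => g • y) '' {y : X | z • y ≠ y} := by
    ext y
    constructor
    · intro hy
      refine ⟨g⁻¹ • y, ?_, smul_inv_smul g y⟩
      intro h2
      apply hy
      rw [← h, mul_smul, mul_smul, h2, smul_inv_smul]
    · rintro ⟨w, hw, rfl⟩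
      intro h2
      apply hw
      have h3 : a • g • w = g • w := h2
      rw [← h, mul_smul, mul_smul, inv_smul_smul] at h3
      exact MulAction.injective g h3
  rw [h1]
  exact Set.ncard_image_of_injective _ (MulAction.injective g)

/-- **degree 70** -/
theorem seventy_false (hX : Nat.card X = 70) (hprim : IsPreprimitive Spor.He X) {x : X} (hZ : Z • x ≠ x) :
    False := by
  obtain ⟨a, h1, h2, h3, ⟨g, hg⟩, h4⟩ := exists_reg hZ
  have hZP : Z ∈ P := mem_sup_right (mem_sup_right (mem_zpowers _))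
  have hcomm : ∀ i j : ℕ, Commute (a ^ i) (Z ^ j) := fun i j => (show Commute a Z from h2).pow_pow i j
  set D : Set X := Set.range fun p : Fin 7 × Fin 7 => (a ^ (p.1 : ℕ) * Z ^ (p.2 : ℕ)) • x with hD
  have hDc : D.ncard = 49 := card_range h1 h2 hZ h4
  have hDO : D ⊆ orbit P x := by
    rintro _ ⟨p, rfl⟩
    exact ⟨⟨a ^ (p.1 : ℕ) * Z ^ (p.2 : ℕ), P.mul_mem (P.pow_mem h3 _) (P.pow_mem hZP _)⟩, rfl⟩
  have hDO' : D = orbit P x :=
    Set.eq_of_subset_of_ncard_le hDO (by rw [hDc, card_orbit hX hZ]) (Set.toFinite _)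
  have hmZ : {y : X | Z • y ≠ y} = D := by rw [hDO']; exact moved_eq hX hZ
  have hma : {y : X | a • y ≠ y} = D := by
    symm
    apply Set.eq_of_subset_of_ncard_le _ _ (Set.toFinite _)
    · rintro _ ⟨p, rfl⟩
      intro h5
      have h6 : a • ((a ^ (p.1 : ℕ) * Z ^ (p.2 : ℕ)) • x) = (a ^ (p.1 : ℕ) * Z ^ (p.2 : ℕ)) • x := h5
      have h7 : a * (a ^ (p.1 : ℕ) * Z ^ (p.2 : ℕ)) = (a ^ (p.1 : ℕ) * Z ^ (p.2 : ℕ)) * a := by
        have c1 : Commute a (a ^ (p.1 : ℕ)) := (Commute.refl a).pow_right _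
        have c2 : Commute a (Z ^ (p.2 : ℕ)) := (show Commute a Z from h2).pow_right _
        exact (c1.mul_right c2).eq
      rw [← mul_smul, h7, mul_smul] at h6
      have h8 := MulAction.injective _ h6
      apply h4 0
      rw [pow_zero, mul_one]
      exact h8
    · rw [ncard_moved_conj hg, hmZ]
  -- Jordan
  have hs : (Dᶜ : Set X).ncard = 20 + 1 := by
    have h5 := Set.ncard_add_ncard_compl D (Set.toFinite _) (Set.toFinite _)
    rw [hDc, hX] at h5
    omega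
  have hfa : a ∈ fixingSubgroup Spor.He (Dᶜ : Set X) := by
    rw [mem_fixingSubgroup_iff]
    intro y hy
    by_contra h5
    apply hy
    rw [← hma]; exact h5
  have hfZ : Z ∈ fixingSubgroup Spor.He (Dᶜ : Set X) := by
    rw [mem_fixingSubgroup_iff]
    intro y hy
    by_contra h5
    apply hy
    rw [← hmZ]; exact h5
  have hxD : x ∈ D := ⟨(0, 0), by simp⟩
  have htrans : IsPretransitive (fixingSubgroup Spor.He (Dᶜ : Set X))
      (SubMulAction.ofFixingSubgroup Spor.He (Dᶜ : Set X)) := by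
    have hx' : x ∈ SubMulAction.ofFixingSubgroup Spor.He (Dᶜ : Set X) := by
      show x ∉ (Dᶜ : Set X)
      exact fun h => h hxD
    refine ⟨?_⟩
    have key : ∀ y : SubMulAction.ofFixingSubgroup Spor.He (Dᶜ : Set X),
        ∃ k : fixingSubgroup Spor.He (Dᶜ : Set X), k • (⟨x, hx'⟩ : SubMulAction.ofFixingSubgroup Spor.He (Dᶜ : Set X)) = y := by
      rintro ⟨y, hy⟩
      have hy' : y ∈ D := by
        by_contra h5
        exact hy h5
      obtain ⟨p, rfl⟩ := hy'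
      refine ⟨⟨a ^ (p.1 : ℕ) * Z ^ (p.2 : ℕ), mul_mem (pow_mem hfa _) (pow_mem hfZ _)⟩, ?_⟩
      apply Subtype.ext
      rfl
    intro y z
    obtain ⟨k, hk⟩ := key y
    obtain ⟨l, hl⟩ := key z
    refine ⟨l * k⁻¹, ?_⟩
    rw [← hk, mul_smul, inv_smul_smul, hl]
  have h2t : IsMultiplyPretransitive Spor.He X 2 :=
    hprim.is_two_pretransitive (s := (Dᶜ : Set X)) (n := 20) hs (by rw [hX]; norm_num) htrans
  rw [is_two_pretransitive_iff] at h2t
  -- the stabilizer is transitive on the other points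
  have hZx : Z • x ≠ x := hZ
  have horb : orbit (stabilizer Spor.He x) (Z • x) = {x}ᶜ := by
    ext y
    constructor
    · rintro ⟨k, rfl⟩
      intro h5
      have h6 : (k : Spor.He) • (Z • x) = x := h5
      have h7 : (k : Spor.He) • x = x := k.2
      have h8 : (k : Spor.He) • (Z • x) = (k : Spor.He) • x := by rw [h6, h7]
      exact hZx (MulAction.injective _ h8)
    · intro hy
      have hy' : y ≠ x := hy
      obtain ⟨k, hk1, hk2⟩ := h2t (Ne.symm hZx) (Ne.symm hy')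
      exact ⟨⟨k, hk1⟩, hk2⟩
  have h69 : (orbit (stabilizer Spor.He x) (Z • x)).ncard = 69 := by
    rw [horb]
    have h5 := Set.ncard_add_ncard_compl ({x} : Set X) (Set.toFinite _) (Set.toFinite _)
    rw [Set.ncard_singleton, hX] at h5
    omega
  rw [← index_stabilizer] at h69
  have h5 : 69 ∣ Nat.card Spor.He := by
    rw [← h69]
    exact (index_dvd_card _).trans (card_subgroup_dvd_card _)
  rw [Cfsg.Agent.FixBN.HeStab.card_he] at h5
  omega

end act

/-- **The Held group.** -/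
theorem sq_he [IsSimpleGroup Spor.He] : SQ Spor.He := by
  have hN : Nat.card Spor.He = 4030387200 := Cfsg.Agent.FixBN.HeStab.card_he
  refine sq_of_cases_max (N := 4030387200) (W := 210) (L := [2, 3, 5, 7, 17]) ⟨?_, ?_, ?_, {2, 3, 5, 7}, ?_, ?_⟩
    hN (p := 17) (by norm_num) (by norm_num) [21, 30, 35, 42, 70, 105, 210] ?_ ?_
  · decide +kernel
  · decide +kernel
  · decide
  · decide
  · decide +kernel
  · intro d h1 h2 h3 _
    have : ∀ d < 211, 17 ≤ d → d ∣ 210 → d ∈ [21, 30, 35, 42, 70, 105, 210] := by decide +kernel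
    exact this d h1 h2 h3
  · intro M hM _ hd
    obtain ⟨x, hx⟩ := exists_moved hM.1 Z_ne
    have h49 : 49 ≤ M.index := forty_nine_le (X := Spor.He ⧸ M) hx
    have hd' : M.index = 70 ∨ M.index = 105 ∨ M.index = 210 := by
      simp only [List.mem_cons, List.not_mem_nil, or_false] at hd
      omega
    rcases hd' with hd' | hd'
    · exact seventy_false (X := Spor.He ⧸ M) hd' (SmallSimple.IndexJordan.isPreprimitive_quotient hM) hx
    · have h17 : Nat.Prime 17 := by norm_num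
      obtain ⟨h1, h2, h3⟩ := exists_fix hN (M := M) 17 h17 (by norm_num) (by norm_num)
        (by rcases hd' with h | h <;> rw [h] <;> norm_num) HeSeventeen.order_X
      obtain ⟨n, k, -, hk, -, hk2⟩ := Cfsg.Agent.H836.Sylow.card_normalizer (G := Spor.He) h17
        (by rw [hN]; norm_num) (X := zpowers (Cfsg.Agent.SporadicB.HePerm.wd HeSeventeen.X)) (by
          rw [Nat.card_zpowers, HeSeventeen.order_X])
      have hC : Nat.card (centralizer (zpowers (Cfsg.Agent.SporadicB.HePerm.wd HeSeventeen.X) : Set Spor.He)) = 17 := by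
        apply le_antisymm
        · refine le_trans ?_ HeSeventeen.card_le
          apply Nat.le_of_dvd Nat.card_pos
          apply card_dvd_of_le
          intro c hc
          rw [mem_centralizer_singleton_iff]
          exact (mem_centralizer_iff.1 hc _ (mem_zpowers _)).symm
        · have h10 := Nat.le_of_dvd Nat.card_pos (card_dvd_of_le (le_centralizer (zpowers (Cfsg.Agent.SporadicB.HePerm.wd HeSeventeen.X))))
          rwa [Nat.card_zpowers, HeSeventeen.order_X] at h10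
      rw [hk2, hC] at h3
      obtain ⟨F, hF⟩ : ∃ F, {x : Spor.He ⧸ M | Cfsg.Agent.SporadicB.HePerm.wd HeSeventeen.X • x = x}.ncard = F := ⟨_, rfl⟩
      rw [hF] at h1 h2 h3
      have h4 : F ∣ 16 := (Nat.dvd_of_mul_dvd_mul_left (by norm_num) h3).trans hk
      have h5 : F % 17 = M.index % 17 := h1
      have h6 : F ∈ Nat.divisors 16 := Nat.mem_divisors.2 ⟨h4, by norm_num⟩
      have h7 : ∀ F ∈ Nat.divisors 16, F % 17 ≠ 105 % 17 ∧ F % 17 ≠ 210 % 17 := by decide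
      rcases hd' with h | h
      · rw [h] at h5
        exact (h7 F h6).1 h5
      · rw [h] at h5
        exact (h7 F h6).2 h5

universe u

theorem he {T : Type u} [Group T] [Finite T] [IsSimpleGroup T] (h : Spor.IsoHe T) : SQ T := by
  obtain ⟨e⟩ := h
  have : IsSimpleGroup Spor.He := SqSzRee.simple_of_equiv e
  exact SQ.congr e.symm sq_he

end Cfsg.Agent.H394.SqSporHe
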