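import Mathlib
import Cfsg.Agent.H394.SqSporBase
import Cfsg.Agent.NotCT.Orders

/-!
# Sporadic rows by the order only
-/

set_option autoImplicit false

namespace Cfsg.Agent.H394.SqSporOrd

open Cfsg Cfsg.Agent.H396 Cfsg.Agent.H394.SqSporBase
open scoped Nat

universe u
variable {T : Type u} [Group T] [Finite T] [IsSimpleGroup T]

theorem m11 (h : Spor.IsoM11 T) : SQ T := by
  refine sq_of_cases (N := 7920) (W := 6) (L := [2, 3, 5, 11]) ⟨?_, ?_, ?_, {2, 3}, ?_, ?_⟩
    (NotCT.Orders.m11 h) (p := 11) (by norm_num) (by norm_num) [] ?_ (fun M _ _ h => by simp at h)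
  · decide +kernel
  · decide +kernel
  · decide
  · decide
  · decide
  · intro d h1 h2; omega

theorem m12 (h : Spor.IsoM12 T) : SQ T := by
  refine sq_of_cases (N := 95040) (W := 6) (L := [2, 3, 5, 11]) ⟨?_, ?_, ?_, {2, 3}, ?_, ?_⟩
    (NotCT.Orders.m12 h) (p := 11) (by norm_num) (by norm_num) [] ?_ (fun M _ _ h => by simp at h)
  · decide +kernel
  · decide +kernel
  · decide
  · decide
  · decide
  · intro d h1 h2; omega

theorem m22 (h : Spor.IsoM22 T) : SQ T := by
  refine sq_of_cases (N := 443520) (W := 6) (L := [2, 3, 5, 7, 11]) ⟨?_, ?_, ?_, {2, 3}, ?_, ?_⟩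
    (NotCT.Orders.m22 h) (p := 11) (by norm_num) (by norm_num) [] ?_ (fun M _ _ h => by simp at h)
  · decide +kernel
  · decide +kernel
  · decide
  · decide
  · decide
  · intro d h1 h2; omega

theorem m23 (h : Spor.IsoM23 T) : SQ T := by
  refine sq_of_cases (N := 10200960) (W := 6) (L := [2, 3, 5, 7, 11, 23]) ⟨?_, ?_, ?_, {2, 3}, ?_, ?_⟩
    (NotCT.Orders.m23 h) (p := 23) (by norm_num) (by norm_num) [] ?_ (fun M _ _ h => by simp at h)
  · decide +kernel
  · decide +kernel
  · decide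
  · decide
  · decide
  · intro d h1 h2; omega

theorem m24 (h : Spor.IsoM24 T) : SQ T := by
  refine sq_of_cases (N := 244823040) (W := 6) (L := [2, 3, 5, 7, 11, 23]) ⟨?_, ?_, ?_, {2, 3}, ?_, ?_⟩
    (NotCT.Orders.m24 h) (p := 23) (by norm_num) (by norm_num) [] ?_ (fun M _ _ h => by simp at h)
  · decide +kernel
  · decide +kernel
  · decide
  · decide
  · decide
  · intro d h1 h2; omega

theorem j1 (h : Spor.IsoJ1 T) : SQ T := by
  refine sq_of_cases (N := 175560) (W := 2) (L := [2, 3, 5, 7, 11, 19]) ⟨?_, ?_, ?_, {2}, ?_, ?_⟩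
    (NotCT.Orders.j1 h) (p := 19) (by norm_num) (by norm_num) [] ?_ (fun M _ _ h => by simp at h)
  · decide +kernel
  · decide +kernel
  · decide
  · decide
  · decide
  · intro d h1 h2; omega

theorem j3 (h : Spor.IsoJ3 T) : SQ T := by
  refine sq_of_cases (N := 50232960) (W := 6) (L := [2, 3, 5, 17, 19]) ⟨?_, ?_, ?_, {2, 3}, ?_, ?_⟩
    (NotCT.Orders.j3 h) (p := 19) (by norm_num) (by norm_num) [] ?_ (fun M _ _ h => by simp at h)
  · decide +kernel
  · decide +kernel
  · decide
  · decide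
  · decide
  · intro d h1 h2; omega

theorem ly (h : Spor.IsoLy T) : SQ T := by
  refine sq_of_cases (N := 51765179004000000) (W := 30) (L := [2, 3, 5, 7, 11, 31, 37, 67])
    ⟨?_, ?_, ?_, {2, 3, 5}, ?_, ?_⟩
    (NotCT.Orders.ly h) (p := 67) (by norm_num) (by norm_num) [] ?_ (fun M _ _ h => by simp at h)
  · decide +kernel
  · decide +kernel
  · decide
  · decide
  · decide +kernel
  · intro d h1 h2; omega

end Cfsg.Agent.H394.SqSporOrd
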