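import Mathlib
import Cfsg.Agent.H394.SqSporBase
import Cfsg.Agent.H836.Sylow
import Cfsg.Agent.H101.SzSub
import Cfsg.Agent.OddCyclic.ClaimC.SzIso
import Cfsg.Agent.S0325
import Cfsg.Agent.S0333
import Cfsg.Agent.CTwoTab.Ru
import Cfsg.Agent.NotCT.Orders

/-!
# `SQ` for `Ru`
-/

set_option autoImplicit false

namespace Cfsg.Agent.H394.SqSporRu

open MulAction Cfsg Subgroup Cfsg.Agent.H396 Cfsg.Agent.H394.SqSporBase Cfsg.Agent.H394.SqBasic
open scoped Nat

theorem index_normalizer {G : Type*} [Group G] [Finite G] {p : ℕ} (hp : p.Prime) (h : ¬ p ^ 2 ∣ Nat.card G)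
    {U : Subgroup G} (hU : Nat.card U = p) :
    (normalizer (U : Set G)).index = Nat.card (Sylow p G) := by
  have := Fact.mk hp
  let P : Sylow p G := Sylow.ofCard U (Cfsg.Agent.H836.Sylow.card_pow_fact hp h hU)
  exact P.card_eq_index_normalizer.symm

/-- the number of Sylow 2-subgroups of `Sz(8)` -/
theorem card_sylow_sz {F : Type*} [Field F] [Fintype F] (hF : Fintype.card F = 2 ^ (2 * 1 + 1))
    (P : Sylow 2 ↥(Cfsg.Sz F 1)) :
    (normalizer ((P : Subgroup ↥(Cfsg.Sz F 1)) : Set ↥(Cfsg.Sz F 1))).index = 65 := by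
  obtain ⟨e⟩ := Cfsg.Agent.OddCyclic.ClaimC.SzIso.iso le_rfl hF
  obtain ⟨h1, S, -, h3, -⟩ := Cfsg.Agent.S1163.result le_rfl hF
  have hfin : Finite ↥(Cfsg.Lie.Sz F (2 ^ (1 + 1))) := Nat.finite_of_card_ne_zero (by rw [h1]; norm_num)
  have hfin' : Finite ↥(Cfsg.Sz F 1) := Finite.of_equiv _ e.symm.toEquiv
  have := Fact.mk Nat.prime_two
  have h4 : Nat.card (Sylow 2 ↥(Cfsg.Lie.Sz F (2 ^ (1 + 1)))) = 65 := by
    rw [S.card_eq_index_normalizer]
    exact h3.trans (by norm_num)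
  have h5 : Nat.card ((P : Subgroup ↥(Cfsg.Sz F 1)).map e.toMonoidHom) =
      2 ^ (Nat.card ↥(Cfsg.Lie.Sz F (2 ^ (1 + 1)))).factorization 2 := by
    rw [card_map_of_injective e.injective, ← Nat.card_congr e.toEquiv]
    exact P.card_eq_multiplicity
  let Q : Sylow 2 ↥(Cfsg.Lie.Sz F (2 ^ (1 + 1))) := Sylow.ofCard _ h5
  have h6 : (normalizer ((P : Subgroup ↥(Cfsg.Sz F 1)) : Set ↥(Cfsg.Sz F 1))).map e.toMonoidHom =
      normalizer (((P : Subgroup ↥(Cfsg.Sz F 1)).map e.toMonoidHom : Subgroup _) : Set _) :=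
    map_equiv_normalizer_eq _ e
  have h7 : ((normalizer ((P : Subgroup ↥(Cfsg.Sz F 1)) : Set ↥(Cfsg.Sz F 1))).map e.toMonoidHom).index =
      (normalizer ((P : Subgroup ↥(Cfsg.Sz F 1)) : Set ↥(Cfsg.Sz F 1))).index :=
    index_map_equiv _ e
  rw [← h7, h6, ← h4]
  exact Q.card_eq_index_normalizer.symm

/-- **`Sz(8)` has no proper subgroup of index at most `30`.** -/
theorem idx_sz {F : Type*} [Field F] [Fintype F] (hF : Fintype.card F = 2 ^ (2 * 1 + 1))
    (M : Subgroup ↥(Cfsg.Sz F 1)) (hM : M ≠ ⊤) : 30 < M.index := by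
  have hcard : Nat.card ↥(Cfsg.Sz F 1) = 29120 := by
    rw [Cfsg.Agent.S0324.result le_rfl hF]; norm_num
  have hfin : Finite ↥(Cfsg.Sz F 1) := Nat.finite_of_card_ne_zero (by rw [hcard]; norm_num)
  have hs : IsSimpleGroup ↥(Cfsg.Sz F 1) := Cfsg.Agent.S0325.result le_rfl hF
  by_contra hle
  have hM0 : 0 < M.index := Nat.pos_of_ne_zero index_ne_zero_of_finite
  rcases Cfsg.Agent.H101.SzSub.main le_rfl hF M hM with ⟨P, hP⟩ | ⟨U, hUc, hU, hMU⟩ | ⟨K, _, _, k, h1, h2, -⟩
  · have h1 := index_dvd_of_le hP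
    rw [card_sylow_sz hF P] at h1
    have := Nat.le_of_dvd hM0 h1
    omega
  · have h1 := Nat.le_of_dvd hM0 (index_dvd_of_le hMU)
    have hNle : (normalizer (U : Set ↥(Cfsg.Sz F 1))).index ≤ 30 := by omega
    have hNtop : normalizer (U : Set ↥(Cfsg.Sz F 1)) ≠ ⊤ := by
      intro h
      have hn : U.Normal := normalizer_eq_top_iff.1 h
      rcases IsSimpleGroup.eq_bot_or_eq_top_of_normal U hn with h3 | h3
      · rw [h3, card_bot] at hU
        norm_num at hU
      · rw [h3, card_top, hcard] at hU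
        norm_num at hU
    have h13 : 13 ≤ (normalizer (U : Set ↥(Cfsg.Sz F 1))).index :=
      le_index_of_prime_dvd hNtop (by norm_num) (by rw [hcard]; norm_num)
    have hU' : Nat.card U = 7 ∨ Nat.card U = 13 ∨ Nat.card U = 5 := by
      rcases hU with h | h | h
      · left; rw [h]; norm_num
      · right; left; rw [h]; norm_num
      · right; right
        have h' : Nat.card U = 2 ^ (2 * 1 + 1) - 2 ^ (1 + 1) + 1 := h
        rw [h']; norm_num
    have h333 := Cfsg.Agent.S0333.result le_rfl hF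
    have hNN : ∀ k ∈ ({2 ^ (2 * 1 + 1) + 2 ^ (1 + 1) + 1, 2 ^ (2 * 1 + 1) - 2 ^ (1 + 1) + 1} : Set ℕ), k.Prime →
        ¬ k ^ 2 ∣ Nat.card ↥(Cfsg.Sz F 1) → Nat.card U = k → (normalizer (U : Set ↥(Cfsg.Sz F 1))).index * (4 * k) = 29120 := by
      intro k hk hkp hk2 hUk
      obtain ⟨V, -, hV, -, hVN⟩ := h333 k hk
      rw [index_normalizer hkp hk2 hUk, ← index_normalizer hkp hk2 hV, ← hVN, ← hcard]
      exact index_mul_card _
    rcases hU' with h | h | h
    · obtain ⟨n, k, hn, hk, hk1, hk2⟩ := Cfsg.Agent.H836.Sylow.card_normalizer (G := ↥(Cfsg.Sz F 1)) (p := 7)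
        (by norm_num) (by rw [hcard]; norm_num) h
      have h3 := card_mul_index (normalizer (U : Set ↥(Cfsg.Sz F 1)))
      rw [hk2, hk1] at h3
      have h4 : (normalizer (U : Set ↥(Cfsg.Sz F 1))).index = n := by
        apply Nat.eq_of_mul_eq_mul_left _ h3
        rw [← hk2]; exact Nat.card_pos
      have h5 : n ∣ 29120 := by rw [← hcard, hk1]; exact Dvd.intro_left _ rfl
      rw [h4] at h13 hNle
      have h6 : ∀ n ≤ 30, 13 ≤ n → n % 7 = 1 → ¬ n ∣ 29120 := by decide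
      exact h6 n hNle h13 hn h5
    · have := hNN 13 (by left; norm_num) (by norm_num) (by rw [hcard]; norm_num) h
      omega
    · have := hNN 5 (by right; norm_num) (by norm_num) (by rw [hcard]; norm_num) h
      omega
  · omega

/-- an abstract version -/
theorem idx_of_iso {L : Type*} [Group L] (h : Lie.IsoSuzuki L) (hL : Nat.card L = 29120) (M : Subgroup L)
    (hM : M ≠ ⊤) : 30 < M.index := by
  obtain ⟨F, iF, iF', m, hm, hF, ⟨e⟩⟩ := h
  obtain ⟨e'⟩ := Cfsg.Agent.OddCyclic.ClaimC.SzIso.iso hm hF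
  have hm1 : m = 1 := by
    by_contra hne
    have h1 := (Cfsg.Agent.S1163.result hm hF).1
    rw [← Nat.card_congr e.toEquiv, hL] at h1
    obtain ⟨q, hq⟩ : ∃ q, q = 2 ^ (2 * m + 1) := ⟨_, rfl⟩
    rw [← hq] at h1
    have hq32 : 32 ≤ q := by
      rw [hq]
      calc 32 = 2 ^ 5 := by norm_num
        _ ≤ 2 ^ (2 * m + 1) := Nat.pow_le_pow_right (by norm_num) (by omega)
    have h2 : 1024 ≤ q ^ 2 := by
      calc 1024 = 32 ^ 2 := by norm_num
        _ ≤ q ^ 2 := Nat.pow_le_pow_left hq32 2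
    have h3 : 1024 * 31 * 1025 ≤ q ^ 2 * (q - 1) * (q ^ 2 + 1) :=
      Nat.mul_le_mul (Nat.mul_le_mul h2 (by omega)) (by omega)
    omega
  subst hm1
  have f : L ≃* ↥(Cfsg.Sz F 1) := e.trans e'.symm
  have h1 := idx_sz hF (M.map f.toMonoidHom) (by
    intro h
    apply hM
    rw [eq_top_iff]
    intro x _
    have h2 : f x ∈ M.map f.toMonoidHom := by rw [h]; trivial
    obtain ⟨y, hy, hyx⟩ := h2
    have : y = x := f.injective hyx
    rwa [← this])
  exact h1.trans_eq (index_map_equiv M f)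

universe u
variable {T : Type u} [Group T] [Finite T] [IsSimpleGroup T]

theorem ru (h : Spor.IsoRu T) : SQ T := by
  have hN := NotCT.Orders.ru h
  refine sq_of_lt (N := 145926144000) (W := 30) (L := [2, 3, 5, 7, 13, 29])
    ⟨?_, ?_, ?_, {2, 3, 5}, ?_, ?_⟩ hN ?_
  · decide +kernel
  · decide +kernel
  · decide
  · decide
  · decide +kernel
  · intro M hM
    by_contra hle
    obtain ⟨C, hsz, hL⟩ := CTwoTab.Ru.exists_core_sz h
    obtain ⟨y, hy⟩ := @exists_prime_orderOf_dvd_card' ↥C.L _ _ 13 ⟨by norm_num⟩ (by rw [hL]; norm_num)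
    have hy1 : (y : T) ≠ 1 := by
      intro h1
      have : y = 1 := Subtype.ext h1
      rw [this, orderOf_one] at hy
      omega
    obtain ⟨x, hx⟩ := exists_moved hM hy1
    have h1 : (stabilizer ↥C.L x).index ≤ 30 := by
      rw [index_stabilizer]
      have h2 : (orbit ↥C.L x).ncard ≤ (Set.univ : Set (T ⧸ M)).ncard :=
        Set.ncard_le_ncard (Set.subset_univ _) (Set.toFinite _)
      rw [Set.ncard_univ] at h2
      have h3 : Nat.card (T ⧸ M) = M.index := rfl
      omega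
    have h2 : stabilizer ↥C.L x ≠ ⊤ := by
      intro h2
      apply hx
      have h3 : y ∈ stabilizer ↥C.L x := by rw [h2]; trivial
      exact h3
    have := idx_of_iso hsz hL _ h2
    omega

end Cfsg.Agent.H394.SqSporRu
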