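import Mathlib
import Cfsg.Agent.H394.SqSporHM
import Cfsg.Agent.EvenType.ChevTwoTits
import Cfsg.Agent.Lib.Cores

/-!
# `SQ` for the Tits group
-/

set_option autoImplicit false

namespace Cfsg.Agent.H394.SqSporTits

open MulAction Cfsg Subgroup Cfsg.Agent.H396 Cfsg.Agent.H394.SqSporBase Cfsg.Agent.H394.SqBasic Cfsg.Agent.H394.SqJordan
  Cfsg.Agent.H394.SqSporJ Cfsg.Agent.H394.SqSporFi Cfsg.Agent.H394.SqSporHM
open scoped Nat

/-- An element of order `13` commuting with all ... -/
theorem comm_of_thirteen {G : Type*} [Group G] [Finite G] {Q : Subgroup G} (hQ : IsPGroup 2 Q)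
    (hcard : Nat.card Q ∣ 2 ^ 11) {g : G} (hg : g ^ 13 = 1) (hn : ∀ q ∈ Q, g * q * g⁻¹ ∈ Q) :
    ∀ q ∈ Q, g * q = q * g := by
  classical
  -- `Q` as a set with the action of `⟨g⟩` by conjugation
  have hn' : ∀ x ∈ zpowers g, ∀ q ∈ Q, x * q * x⁻¹ ∈ Q := by
    have h1 : zpowers g ≤ normalizer (Q : Set G) := by
      rw [zpowers_le, mem_normalizer_iff]
      have h2 : Q.map (MulAut.conj g).toMonoidHom ≤ Q := by
        rintro _ ⟨q, hq, rfl⟩
        exact hn q hq
      have h3 : Q.map (MulAut.conj g).toMonoidHom = Q :=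
        Subgroup.eq_of_le_of_card_ge h2 (by rw [card_map_of_injective (MulAut.conj g).injective])
      intro q
      refine ⟨hn q, fun hq => ?_⟩
      rw [← h3] at hq
      obtain ⟨w, hw, hwq⟩ := hq
      have : w = q := (MulAut.conj g).injective hwq
      rwa [← this]
    intro x hx q hq
    exact (mem_normalizer_iff.1 (h1 hx) q).1 hq
  let act : MulAction (zpowers g) Q :=
    { smul := fun x q => ⟨(x : G) * q * (x : G)⁻¹, hn' x x.2 q q.2⟩
      one_smul := fun q => Subtype.ext (by show ((1 : zpowers g) : G) * q * ((1 : zpowers g) : G)⁻¹ = q; simp)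
      mul_smul := fun x y q => Subtype.ext (by
        show ((x * y : zpowers g) : G) * q * ((x * y : zpowers g) : G)⁻¹ = (x : G) * ((y : G) * q * (y : G)⁻¹) * (x : G)⁻¹
        simp only [Subgroup.coe_mul, mul_inv_rev]; group) }
  have hp : IsPGroup 13 (zpowers g) := by
    rintro ⟨y, n, rfl⟩
    refine ⟨1, Subtype.ext ?_⟩
    show (g ^ n) ^ 13 ^ 1 = 1
    rw [pow_one, ← zpow_natCast, ← zpow_mul, mul_comm, zpow_mul, zpow_natCast, hg, one_zpow]
  have := Fact.mk (show Nat.Prime 13 by norm_num)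
  have : Fintype Q := Fintype.ofFinite _
  have h1 := hp.card_modEq_card_fixedPoints (α := Q)
  -- the fixed points
  let F : Subgroup Q :=
    { carrier := {q | g * q = q * g}
      one_mem' := by simp
      mul_mem' := fun {a b} ha hb => by
        show g * ((a * b : Q) : G) = ((a * b : Q) : G) * g
        have ha' : g * (a : G) = a * g := ha
        have hb' : g * (b : G) = b * g := hb
        rw [Subgroup.coe_mul, ← mul_assoc, ha', mul_assoc, hb', mul_assoc]
      inv_mem' := fun {a} ha => by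
        show g * ((a⁻¹ : Q) : G) = ((a⁻¹ : Q) : G) * g
        have ha' : g * (a : G) = a * g := ha
        rw [Subgroup.coe_inv, eq_inv_mul_iff_mul_eq, ← mul_assoc, ← ha', mul_assoc, mul_inv_cancel, mul_one] }
  have h2 : Nat.card (fixedPoints (zpowers g) Q) = Nat.card F := by
    congr 1
    apply congrArg
    ext q
    constructor
    · intro hq
      have h3 := congrArg Subtype.val (hq ⟨g, mem_zpowers g⟩)
      have h4 : g * (q : G) * g⁻¹ = q := h3
      show g * (q : G) = q * g
      rw [← mul_inv_eq_iff_eq_mul]; exact h4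
    · intro hq
      have hq' : g * (q : G) = q * g := hq
      have hst : g ∈ centralizer ({(q : G)} : Set G) := mem_centralizer_singleton_iff.2 hq'
      rintro ⟨x, hx⟩
      have h3 : x ∈ centralizer ({(q : G)} : Set G) := (zpowers_le.2 hst) hx
      apply Subtype.ext
      show x * (q : G) * x⁻¹ = q
      rw [mem_centralizer_singleton_iff.1 h3, mul_inv_cancel_right]
  rw [h2] at h1
  obtain ⟨b, hb, hbc⟩ := (Nat.dvd_prime_pow Nat.prime_two).1 hcard
  obtain ⟨a, ha, hac⟩ := (Nat.dvd_prime_pow Nat.prime_two).1 (F.card_subgroup_dvd_card.trans hcard)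
  rw [hbc, hac] at h1
  have key : ∀ b ≤ 11, ∀ a ≤ 11, 2 ^ b % 13 = 2 ^ a % 13 → b = a := by decide
  have h3 := key b hb a ha h1
  have h4 : F = ⊤ := Subgroup.eq_top_of_card_eq F (by rw [hac, hbc, h3])
  intro q hq
  have h5 : (⟨q, hq⟩ : Q) ∈ F := by rw [h4]; trivial
  exact h5

universe u
variable {T : Type u} [Group T] [Finite T] [IsSimpleGroup T]

/-- no element of order `13` commutes with an involution -/
theorem not_thirteen (h : Lie.IsoTits T) (t : T) (ht : orderOf t = 2) :
    ¬ 13 ∣ Nat.card (centralizer ({t} : Set T)) := by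
  intro h13
  have hN := NotCT.Orders.tits h
  have : Fact (Nat.Prime 2) := ⟨Nat.prime_two⟩
  obtain ⟨h1, h2⟩ := Cfsg.Agent.EvenType.ChevTwoTits.charTwo h
  have hT : IsPGroup 2 (zpowers t) := by
    refine IsPGroup.of_card (n := 1) ?_
    rw [Nat.card_zpowers, ht, pow_one]
  have hne : zpowers t ≠ ⊥ := by
    intro h
    rw [zpowers_eq_bot] at h
    rw [h, orderOf_one] at ht
    omega
  have h3 := h2 (zpowers t) hT hne
  set N := normalizer (zpowers t : Set T) with hNdef
  obtain ⟨g, hg⟩ := @exists_prime_orderOf_dvd_card' _ _ _ 13 ⟨by norm_num⟩ h13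
  have hgt : (g : T) * t = t * g := mem_centralizer_singleton_iff.1 g.2
  have hgN : (g : T) ∈ N := by
    rw [hNdef]
    refine centralizer_le_normalizer _ ?_
    rw [mem_centralizer_iff]
    rintro _ ⟨n, rfl⟩
    have : Commute (g : T) t := hgt
    exact ((this.zpow_right n).eq).symm
  have hgo : orderOf (g : T) = 13 :=
    (orderOf_injective (centralizer ({t} : Set T)).subtype (Subgroup.subtype_injective _) g).trans hg
  have h5 : IsPGroup 2 (pCore 2 N) := Cfsg.Agent.Lib.Cores.pCore_isPGroup 2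
  have hcard : Nat.card (pCore 2 N) ∣ 2 ^ 11 := by
    obtain ⟨b, hb⟩ := IsPGroup.iff_card.1 h5
    have h6 : Nat.card (pCore 2 N) ∣ Nat.card T :=
      (card_subgroup_dvd_card (pCore 2 N)).trans (card_subgroup_dvd_card N)
    rw [hN, hb] at h6
    rw [hb]
    have h7 : 2 ^ b ∣ 2 ^ 11 * 8775 := by
      have : (17971200 : ℕ) = 2 ^ 11 * 8775 := by norm_num
      rwa [this] at h6
    exact Nat.Coprime.dvd_of_dvd_mul_right (Nat.Coprime.pow_left _ (by norm_num)) h7
  have hg13 : (⟨g, hgN⟩ : N) ^ 13 = 1 := by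
    apply Subtype.ext
    show (g : T) ^ 13 = 1
    rw [← hgo]; exact pow_orderOf_eq_one _
  have hnor : (pCore 2 N).Normal := inferInstance
  have h8 := comm_of_thirteen h5 hcard hg13 (fun q hq => hnor.conj_mem q hq _)
  have h9 : (⟨g, hgN⟩ : N) ∈ pCore 2 N := by
    apply h3
    rw [mem_centralizer_iff]
    intro q hq
    exact (h8 q hq).symm
  obtain ⟨k, hk⟩ := h5 ⟨_, h9⟩
  have h10 : (⟨g, hgN⟩ : N) ^ 2 ^ k = 1 := congrArg Subtype.val hk
  have h11 : (g : T) ^ 2 ^ k = 1 := congrArg Subtype.val h10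
  have h12 := orderOf_dvd_of_pow_eq_one h11
  rw [hgo] at h12
  have := (show Nat.Prime 13 by norm_num).dvd_of_dvd_pow h12
  omega

/-- a simple group of composite order is not commutative -/
theorem not_comm {G : Type*} [Group G] [Finite G] [IsSimpleGroup G] (h : ¬ (Nat.card G).Prime) :
    ¬ IsMulCommutative G := by
  intro hc
  apply h
  have hcomm : ∀ a b : G, a * b = b * a := fun a b => hc.is_comm.comm a b
  have hpos : Nat.card G ≠ 1 := by
    intro h1
    have := (Nat.card_eq_one_iff_unique.1 h1).1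
    exact not_subsingleton G this
  obtain ⟨p, hp, hpc⟩ := Nat.exists_prime_and_dvd hpos
  obtain ⟨x, hx⟩ := @exists_prime_orderOf_dvd_card' G _ _ p ⟨hp⟩ hpc
  have hn : (zpowers x).Normal := ⟨fun n hn g => by
    have : g * n * g⁻¹ = n := by rw [hcomm g n, mul_inv_cancel_right]
    rwa [this]⟩
  rcases IsSimpleGroup.eq_bot_or_eq_top_of_normal _ hn with h1 | h1
  · rw [zpowers_eq_bot] at h1
    rw [h1, orderOf_one] at hx
    exact absurd hx hp.one_lt.ne
  · have h2 : Nat.card (zpowers x) = Nat.card G := by rw [h1]; exact card_top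
    rw [← h2, Nat.card_zpowers, hx]
    exact hp

/-- **The Tits group.** -/
theorem tits (h : Lie.IsoTits T) : SQ T := by
  have hN := NotCT.Orders.tits h
  refine sq_of_cases_max (N := 17971200) (W := 30) (L := [2, 3, 5, 13])
    ⟨?_, ?_, ?_, {2, 3, 5}, ?_, ?_⟩
    hN (p := 13) (by norm_num) (by norm_num) [15, 30] ?_ ?_
  · decide +kernel
  · decide +kernel
  · decide
  · decide
  · decide +kernel
  · intro d h1 h2 h3 _
    have : ∀ d < 31, 13 ≤ d → d ∣ 30 → d ∈ [15, 30] := by decide
    exact this d h1 h2 h3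
  · intro M hM _ hd
    have hd' : M.index = 15 ∨ M.index = 30 := by simpa using hd
    rcases hd' with hd | hd
    · have hnc : ¬ IsMulCommutative T := not_comm (by rw [hN]; norm_num)
      have h1 := SmallSimple.Embed.two_mul_card_dvd_factorial_index hnc M hM.1
      rw [hN, hd] at h1
      revert h1
      decide +kernel
    have h13p : Nat.Prime 13 := by norm_num
    obtain ⟨g, hg⟩ := @exists_prime_orderOf_dvd_card' T _ _ 13 ⟨h13p⟩ (by rw [hN]; norm_num)
    have hg1 : g ≠ 1 := by
      rintro rfl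
      rw [orderOf_one] at hg
      omega
    have hgl : g ^ 13 = 1 := by rw [← hg]; exact pow_orderOf_eq_one g
    obtain ⟨h1, h2, h3⟩ := exists_fix hN (M := M) 13 h13p (by norm_num) (by norm_num) (by rw [hd]; norm_num) hg
    have h4 := fix_lt hM.1 hg1
    have hJ := fun h => jordan hM h13p hgl hg1 h (by omega) (by omega)
    obtain ⟨F, hF⟩ : ∃ F, {x : T ⧸ M | g • x = x}.ncard = F := ⟨_, rfl⟩
    rw [hF] at h1 h2 h3 h4 hJ
    rw [hd, hN] at hJ
    have h5 : ¬ 30 < F + 2 * 13 := fun h => by
      have h6 := hJ h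
      have h7 : 2 * 17971200 < 30 ! := by decide +kernel
      omega
    have h6 : F % 13 = M.index % 13 := h1
    have h7 : F = 4 := by
      rw [hd] at h6 h4
      omega
    obtain ⟨n, k, hn, hk, hk1, hk2⟩ := Cfsg.Agent.H836.Sylow.card_normalizer (G := T) h13p (by rw [hN]; norm_num)
      (X := zpowers g) (by rw [Nat.card_zpowers, hg])
    rw [hk2, h7] at h3
    rw [hN] at hk1
    have h8 : ¬ 2 ∣ Nat.card (centralizer (zpowers g : Set T)) := by
      intro h2
      obtain ⟨t, ht, htl⟩ := inv_of_even hg h2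
      exact not_thirteen h t ht htl
    have h9 : 13 ∣ Nat.card (centralizer (zpowers g : Set T)) := by
      have h10 : zpowers g ≤ centralizer (zpowers g : Set T) := le_centralizer _
      have h11 := card_dvd_of_le h10
      rwa [Nat.card_zpowers, hg] at h11
    obtain ⟨c, hc⟩ := h9
    rw [hc] at hk1 h8 h3
    have h10 : c * k * n = 1382400 := by
      have : 13 * (c * k * n) = 13 * 1382400 := by rw [← mul_assoc, ← mul_assoc, ← hk1]
      exact Nat.eq_of_mul_eq_mul_left (by norm_num) this
    have hcodd : ¬ 2 ∣ c := fun h => h8 (h.mul_left 13)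
    have hc675 : c ∣ 675 := by
      have h11 : c ∣ 2 ^ 11 * 675 := by
        have : (2 ^ 11 * 675 : ℕ) = c * (k * n) := by rw [← mul_assoc, h10]; norm_num
        rw [this]; exact Dvd.intro _ rfl
      have h12 : Nat.Coprime c (2 ^ 11) := by
        apply Nat.Coprime.pow_right
        rw [Nat.coprime_comm, Nat.Prime.coprime_iff_not_dvd Nat.prime_two]
        exact hcodd
      exact h12.dvd_of_dvd_mul_left h11
    have h4k : 4 ∣ k := by
      have h11 : 13 * 4 ∣ 13 * (c * k) := by rw [← mul_assoc]; exact h3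
      have h12 : 4 ∣ c * k := Nat.dvd_of_mul_dvd_mul_left (by norm_num) h11
      have h13 : Nat.Coprime 4 c := by
        rw [show (4 : ℕ) = 2 ^ 2 by norm_num]
        apply Nat.Coprime.pow_left
        rw [Nat.Prime.coprime_iff_not_dvd Nat.prime_two]
        exact hcodd
      exact h13.dvd_of_dvd_mul_left h12
    have h11 : (c * k) % 13 = 6 := by
      have h12 := congrArg (· % 13) h10
      simp only [Nat.mul_mod (c * k) n, hn, mul_one, Nat.mod_mod] at h12
      omega
    have h12 : ∀ c ∈ Nat.divisors 675, ∀ k ∈ Nat.divisors 12, 4 ∣ k → (c * k) % 13 ≠ 6 := by decide +kernel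
    exact h12 c (Nat.mem_divisors.2 ⟨hc675, by norm_num⟩) k (Nat.mem_divisors.2 ⟨hk, by norm_num⟩) h4k h11

end Cfsg.Agent.H394.SqSporTits
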